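import Cfsg.Agent.TwistedLie.F4Tw
import Cfsg.Agent.TwistedLie.Levels

/-!
`²F₄(q)`: orders and the twisted Weyl group.
-/

set_option autoImplicit false

namespace CfsgLib.TwistedLie.F4

open Cfsg.Lie CfsgLib.Chevalley

local notation "S" => sysF4

/-- Representatives of the twisted Weyl group. -/
def weylWords : List (List (Fin 2)) :=
  [[], [0], [1], [0, 1], [1, 0], [0, 1, 0], [1, 0, 1], [0, 1, 0, 1], [1, 0, 1, 0],
    [0, 1, 0, 1, 0], [1, 0, 1, 0, 1], [0, 1, 0, 1, 0, 1], [1, 0, 1, 0, 1, 0],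
    [0, 1, 0, 1, 0, 1, 0], [1, 0, 1, 0, 1, 0, 1], [0, 1, 0, 1, 0, 1, 0, 1]]

/-- The longest word. -/
def longWord : List (Fin 2) := [0, 1, 0, 1, 0, 1, 0, 1]

/-- Half the number of inversions. -/
def halfInv : List ℕ := [0, 2, 1, 3, 3, 5, 4, 6, 6, 8, 7, 9, 9, 11, 10, 12]

theorem invN_words : weylWords.map (fun L => (Finset.univ.filter fun s : Fin chevF4.nroots =>
    24 ≤ (s : ℕ) ∧ wlW chevF4 blkN L (s : ℕ) < 24).card) = halfInv.map (2 * ·) := by
  decide +kernel

theorem words_closed : ∀ i : Fin 2, ∀ k : Fin weylWords.length, ∃ k' : Fin weylWords.length,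
    SameW chevF4 blkN (i :: weylWords.get k) (weylWords.get k') := by decide +kernel

theorem words_distinct : ∀ k k' : Fin weylWords.length, k ≠ k' →
    ¬ SameW chevF4 blkN (weylWords.get k) (weylWords.get k') := by decide +kernel

variable {K : Type*} [Field K] [Fintype K] {m : ℕ} (hK : Fintype.card K = 2 ^ (2 * m + 1))
include hK

theorem hbl : ∀ i, ((tw hK).blk i).map (fun a : Fin chevF4.rank => (a : ℕ)) = blkN i := blkF_val

theorem inv_card (L : List (Fin 2)) : (invSet ((tw hK).wW L)).card =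
    (Finset.univ.filter fun s : Fin chevF4.nroots =>
      24 ≤ (s : ℕ) ∧ wlW chevF4 blkN L (s : ℕ) < 24).card := by
  congr 1
  ext s
  simp only [mem_invSet, Finset.mem_filter, Finset.mem_univ, true_and, (tw hK).wW_val (hbl hK)]
  rfl

theorem card_X_sq : ∀ i, Nat.card ((tw hK).X i) ^ 2 =
    (2 ^ (2 * m + 1)) ^ (invSet (Sys.wperm S ((tw hK).blk i))).card := by
  have e : ∀ i : Fin 2, (invSet (Sys.wperm S (blkF i))).card = ![4, 2] i := fun i => by
    have := inv_card hK [i]
    rw [Tw.wW_single] at this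
    rw [show Sys.wperm S (blkF i) = Sys.wperm S ((tw hK).blk i) from rfl, this]
    clear this
    revert i
    decide +kernel
  rw [Fin.forall_fin_two]
  refine ⟨?_, ?_⟩
  · show Nat.card (XX hK 0) ^ 2 = (2 ^ (2 * m + 1)) ^ (invSet (Sys.wperm S (blkF 0))).card
    rw [e, (card_XX hK).1, ← pow_mul]
    rfl
  · show Nat.card (XX hK 1) ^ 2 = (2 ^ (2 * m + 1)) ^ (invSet (Sys.wperm S (blkF 1))).card
    rw [e, (card_XX hK).2]
    rfl

theorem card_flip {L : List (Fin 2)} {k : ℕ} (h : (invSet ((tw hK).wW L)).card = 2 * k) :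
    Nat.card ((tw hK).flipFix L) = (2 ^ (2 * m + 1)) ^ k := by
  have h1 := (tw hK).flipFix_card_rel L (R := fun c n => c ^ 2 = (2 ^ (2 * m + 1)) ^ n)
    (by simp) (fun a b k n ha hb => by simp only [mul_pow, ha, hb, pow_add]) (card_X_sq hK)
  refine Nat.pow_left_injective two_ne_zero ?_
  show Nat.card ((tw hK).flipFix L) ^ 2 = ((2 ^ (2 * m + 1)) ^ k) ^ 2
  rw [h1, h, mul_comm 2 k, pow_mul]

theorem card_U : Nat.card ↥(chevF4.posUnipotent K ⊓ (tw hK).G) = (2 ^ (2 * m + 1)) ^ 12 := by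
  rw [← (tw hK).U1_eq (L₀ := longWord) fun s hs => by
    rw [(tw hK).wW_val (hbl hK)]
    exact (by decide +kernel : ∀ r < 48, 24 ≤ r → wlW chevF4 blkN longWord r < 24) _ s.isLt hs]
  refine card_flip hK ?_
  rw [inv_card]
  decide +kernel

theorem card_diag :
    Nat.card ↥(chevF4.diagonalSubgroup K ⊓ (tw hK).G) = (2 ^ (2 * m + 1) - 1) ^ 2 := by
  rw [(tw hK).diag_inf]
  exact card_TT hK

theorem card_group : Nat.card ↥(tw hK).G = (2 ^ (2 * m + 1)) ^ 12 * (2 ^ (2 * m + 1) - 1) *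
    ((2 ^ (2 * m + 1)) ^ 3 + 1) * ((2 ^ (2 * m + 1)) ^ 4 - 1) * ((2 ^ (2 * m + 1)) ^ 6 + 1) := by
  have hs : (weylWords.map fun L => Nat.card ((tw hK).flipFix L)) =
      halfInv.map ((2 ^ (2 * m + 1)) ^ ·) := by
    have hlen : weylWords.length = halfInv.length := rfl
    refine List.ext_getElem (by simp [hlen]) fun k h1 h2 => ?_
    rw [List.getElem_map, List.getElem_map]
    refine card_flip hK ?_
    rw [inv_card]
    have := List.getElem_of_eq invN_words (i := k) (by simpa using h1)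
    simpa using this
  rw [(tw hK).card_G_flip (Ls := weylWords) ⟨⟨0, by decide⟩, (tw hK).wW_nil⟩
      (fun i k => by
        obtain ⟨k', h⟩ := words_closed i k
        exact ⟨k', by rw [← Tw.wW_cons, (tw hK).sameW (hbl hK) h]⟩)
      (fun k k' h => by
        by_contra hne
        refine words_distinct k k' hne fun j => ?_
        have := congrArg (fun w : Equiv.Perm (Fin chevF4.nroots) =>
          (w (Sys.simpleF S j) : ℕ)) h
        simp only [(tw hK).wW_val (hbl hK)] at this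
        exact this),
    hs, Tw.card_B1, card_U hK, show Nat.card ↥(tw hK).T = (2 ^ (2 * m + 1) - 1) ^ 2 from card_TT hK]
  simp only [halfInv, List.map_cons, List.map_nil, List.sum_cons, List.sum_nil]
  have a1 : 1 ≤ 2 ^ (2 * m + 1) := Nat.one_le_two_pow
  generalize 2 ^ (2 * m + 1) = q at a1
  have a4 : 1 ≤ q ^ 4 := Nat.one_le_pow _ _ a1
  zify [a1, a4]
  ring

end CfsgLib.TwistedLie.F4
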