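import Cfsg.Agent.Chevalley.Data.SysD4
import Cfsg.Agent.Chevalley.Bruhat
import Cfsg.Agent.Chevalley.Unipotent
import Cfsg.Prelude.Def_LieTwisted

/-!
Type `D₄` in characteristic two: the multiplication of the positive unipotent subgroup in coordinates
ordered by the roots of the folded diagram.
-/

set_option autoImplicit false

namespace CfsgLib.TwistedLie.D4E

open Cfsg.Lie CfsgLib.Chevalley

variable (F : Type*) [Field F]

/-- The root element of `D₄` as a unit. -/
noncomputable abbrev xd (r : ℕ) (t : F) : GL chevD4.Idx F := sysD4.xG F r t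

/-- The element of `U` with twelve coordinates. -/
noncomputable def uD (b a1 a2 a3 c1 c2 c3 d1 d2 d3 e f : F) : GL chevD4.Idx F :=
  xd F 14 b * (xd F 18 a1 * (xd F 13 a2 * (xd F 12 a3 * (xd F 19 c1 * (xd F 16 c2 * (xd F 15 c3 * (xd F 21 d1 * (xd F 20 d2 * (xd F 17 d3 * (xd F 22 e * (xd F 23 f)))))))))))

theorem swap_eq {r s : ℕ} (hr : r < chevD4.nroots) (hs : s < chevD4.nroots) (h1 : s ≠ r)
    (h2 : s ≠ chevD4.neg r) (t u : F) :
    xd F s u * xd F r t = xd F r t * (xd F s u * sysD4.wG F (chevD4.commWord F r s t u)) := by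
  rw [← sysD4.xG_comm F hr hs h1 h2 t u, mul_assoc, mul_inv_cancel_left]

variable [CharP F 2]

theorem swap_one {r s k : ℕ} (hr : r < chevD4.nroots) (hs : s < chevD4.nroots) (h1 : s ≠ r)
    (h2 : s ≠ chevD4.neg r)
    (h : (chevD4.commTerms r s).map (fun c => (c.1, c.2.1.natAbs, c.2.2.1, c.2.2.2)) = [(k, 1, 1, 1)])
    (t u : F) : xd F s u * xd F r t = xd F r t * (xd F s u * xd F k (t * u)) := by
  obtain ⟨⟨k', C, i, j⟩, hc, he⟩ := List.map_eq_singleton_iff.1 h
  simp only [Prod.mk.injEq] at he
  obtain ⟨rfl, hC, rfl, rfl⟩ := he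
  rw [swap_eq F hr hs h1 h2 t u]
  simp only [ChevalleyDatum.commWord, hc, List.map_cons, List.map_nil, Sys.wG, List.prod_cons,
    List.prod_nil, mul_one, pow_one]
  rcases Int.natAbs_eq C with e | e <;> rw [hC] at e <;> subst e <;>
    simp [xd, mul_assoc, CharTwo.neg_eq]

omit [CharP F 2] in
theorem swap_none {r s : ℕ} (hr : r < chevD4.nroots) (hs : s < chevD4.nroots) (h1 : s ≠ r)
    (h2 : s ≠ chevD4.neg r) (h : chevD4.commTerms r s = []) (t u : F) :
    xd F s u * xd F r t = xd F r t * xd F s u := by
  rw [swap_eq F hr hs h1 h2 t u]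
  simp [ChevalleyDatum.commWord, h, Sys.wG, xd]

theorem c18_14 (t u : F) :
    xd F 18 u * xd F 14 t = xd F 14 t * (xd F 18 u * xd F 19 (t * u)) :=
  swap_one F (by decide +kernel) (by decide +kernel) (by decide) (by decide +kernel) (by decide +kernel) t u

theorem c13_14 (t u : F) :
    xd F 13 u * xd F 14 t = xd F 14 t * (xd F 13 u * xd F 16 (t * u)) :=
  swap_one F (by decide +kernel) (by decide +kernel) (by decide) (by decide +kernel) (by decide +kernel) t u

theorem c12_14 (t u : F) :
    xd F 12 u * xd F 14 t = xd F 14 t * (xd F 12 u * xd F 15 (t * u)) :=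
  swap_one F (by decide +kernel) (by decide +kernel) (by decide) (by decide +kernel) (by decide +kernel) t u

omit [CharP F 2] in
theorem c19_14 (t u : F) : xd F 19 u * xd F 14 t = xd F 14 t * xd F 19 u :=
  swap_none F (by decide +kernel) (by decide +kernel) (by decide) (by decide +kernel) (by decide +kernel) t u

omit [CharP F 2] in
theorem c16_14 (t u : F) : xd F 16 u * xd F 14 t = xd F 14 t * xd F 16 u :=
  swap_none F (by decide +kernel) (by decide +kernel) (by decide) (by decide +kernel) (by decide +kernel) t u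

omit [CharP F 2] in
theorem c15_14 (t u : F) : xd F 15 u * xd F 14 t = xd F 14 t * xd F 15 u :=
  swap_none F (by decide +kernel) (by decide +kernel) (by decide) (by decide +kernel) (by decide +kernel) t u

omit [CharP F 2] in
theorem c21_14 (t u : F) : xd F 21 u * xd F 14 t = xd F 14 t * xd F 21 u :=
  swap_none F (by decide +kernel) (by decide +kernel) (by decide) (by decide +kernel) (by decide +kernel) t u

omit [CharP F 2] in
theorem c20_14 (t u : F) : xd F 20 u * xd F 14 t = xd F 14 t * xd F 20 u :=
  swap_none F (by decide +kernel) (by decide +kernel) (by decide) (by decide +kernel) (by decide +kernel) t u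

omit [CharP F 2] in
theorem c17_14 (t u : F) : xd F 17 u * xd F 14 t = xd F 14 t * xd F 17 u :=
  swap_none F (by decide +kernel) (by decide +kernel) (by decide) (by decide +kernel) (by decide +kernel) t u

theorem c22_14 (t u : F) :
    xd F 22 u * xd F 14 t = xd F 14 t * (xd F 22 u * xd F 23 (t * u)) :=
  swap_one F (by decide +kernel) (by decide +kernel) (by decide) (by decide +kernel) (by decide +kernel) t u

omit [CharP F 2] in
theorem c23_14 (t u : F) : xd F 23 u * xd F 14 t = xd F 14 t * xd F 23 u :=
  swap_none F (by decide +kernel) (by decide +kernel) (by decide) (by decide +kernel) (by decide +kernel) t u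

omit [CharP F 2] in
theorem c13_18 (t u : F) : xd F 13 u * xd F 18 t = xd F 18 t * xd F 13 u :=
  swap_none F (by decide +kernel) (by decide +kernel) (by decide) (by decide +kernel) (by decide +kernel) t u

omit [CharP F 2] in
theorem c12_18 (t u : F) : xd F 12 u * xd F 18 t = xd F 18 t * xd F 12 u :=
  swap_none F (by decide +kernel) (by decide +kernel) (by decide) (by decide +kernel) (by decide +kernel) t u

omit [CharP F 2] in
theorem c19_18 (t u : F) : xd F 19 u * xd F 18 t = xd F 18 t * xd F 19 u :=
  swap_none F (by decide +kernel) (by decide +kernel) (by decide) (by decide +kernel) (by decide +kernel) t u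

theorem c16_18 (t u : F) :
    xd F 16 u * xd F 18 t = xd F 18 t * (xd F 16 u * xd F 21 (t * u)) :=
  swap_one F (by decide +kernel) (by decide +kernel) (by decide) (by decide +kernel) (by decide +kernel) t u

theorem c15_18 (t u : F) :
    xd F 15 u * xd F 18 t = xd F 18 t * (xd F 15 u * xd F 20 (t * u)) :=
  swap_one F (by decide +kernel) (by decide +kernel) (by decide) (by decide +kernel) (by decide +kernel) t u

omit [CharP F 2] in
theorem c21_18 (t u : F) : xd F 21 u * xd F 18 t = xd F 18 t * xd F 21 u :=
  swap_none F (by decide +kernel) (by decide +kernel) (by decide) (by decide +kernel) (by decide +kernel) t u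

omit [CharP F 2] in
theorem c20_18 (t u : F) : xd F 20 u * xd F 18 t = xd F 18 t * xd F 20 u :=
  swap_none F (by decide +kernel) (by decide +kernel) (by decide) (by decide +kernel) (by decide +kernel) t u

theorem c17_18 (t u : F) :
    xd F 17 u * xd F 18 t = xd F 18 t * (xd F 17 u * xd F 22 (t * u)) :=
  swap_one F (by decide +kernel) (by decide +kernel) (by decide) (by decide +kernel) (by decide +kernel) t u

omit [CharP F 2] in
theorem c22_18 (t u : F) : xd F 22 u * xd F 18 t = xd F 18 t * xd F 22 u :=
  swap_none F (by decide +kernel) (by decide +kernel) (by decide) (by decide +kernel) (by decide +kernel) t u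

omit [CharP F 2] in
theorem c23_18 (t u : F) : xd F 23 u * xd F 18 t = xd F 18 t * xd F 23 u :=
  swap_none F (by decide +kernel) (by decide +kernel) (by decide) (by decide +kernel) (by decide +kernel) t u

omit [CharP F 2] in
theorem c12_13 (t u : F) : xd F 12 u * xd F 13 t = xd F 13 t * xd F 12 u :=
  swap_none F (by decide +kernel) (by decide +kernel) (by decide) (by decide +kernel) (by decide +kernel) t u

theorem c19_13 (t u : F) :
    xd F 19 u * xd F 13 t = xd F 13 t * (xd F 19 u * xd F 21 (t * u)) :=
  swap_one F (by decide +kernel) (by decide +kernel) (by decide) (by decide +kernel) (by decide +kernel) t u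

omit [CharP F 2] in
theorem c16_13 (t u : F) : xd F 16 u * xd F 13 t = xd F 13 t * xd F 16 u :=
  swap_none F (by decide +kernel) (by decide +kernel) (by decide) (by decide +kernel) (by decide +kernel) t u

theorem c15_13 (t u : F) :
    xd F 15 u * xd F 13 t = xd F 13 t * (xd F 15 u * xd F 17 (t * u)) :=
  swap_one F (by decide +kernel) (by decide +kernel) (by decide) (by decide +kernel) (by decide +kernel) t u

omit [CharP F 2] in
theorem c21_13 (t u : F) : xd F 21 u * xd F 13 t = xd F 13 t * xd F 21 u :=
  swap_none F (by decide +kernel) (by decide +kernel) (by decide) (by decide +kernel) (by decide +kernel) t u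

theorem c20_13 (t u : F) :
    xd F 20 u * xd F 13 t = xd F 13 t * (xd F 20 u * xd F 22 (t * u)) :=
  swap_one F (by decide +kernel) (by decide +kernel) (by decide) (by decide +kernel) (by decide +kernel) t u

omit [CharP F 2] in
theorem c17_13 (t u : F) : xd F 17 u * xd F 13 t = xd F 13 t * xd F 17 u :=
  swap_none F (by decide +kernel) (by decide +kernel) (by decide) (by decide +kernel) (by decide +kernel) t u

omit [CharP F 2] in
theorem c22_13 (t u : F) : xd F 22 u * xd F 13 t = xd F 13 t * xd F 22 u :=
  swap_none F (by decide +kernel) (by decide +kernel) (by decide) (by decide +kernel) (by decide +kernel) t u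

omit [CharP F 2] in
theorem c23_13 (t u : F) : xd F 23 u * xd F 13 t = xd F 13 t * xd F 23 u :=
  swap_none F (by decide +kernel) (by decide +kernel) (by decide) (by decide +kernel) (by decide +kernel) t u

theorem c19_12 (t u : F) :
    xd F 19 u * xd F 12 t = xd F 12 t * (xd F 19 u * xd F 20 (t * u)) :=
  swap_one F (by decide +kernel) (by decide +kernel) (by decide) (by decide +kernel) (by decide +kernel) t u

theorem c16_12 (t u : F) :
    xd F 16 u * xd F 12 t = xd F 12 t * (xd F 16 u * xd F 17 (t * u)) :=
  swap_one F (by decide +kernel) (by decide +kernel) (by decide) (by decide +kernel) (by decide +kernel) t u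

omit [CharP F 2] in
theorem c15_12 (t u : F) : xd F 15 u * xd F 12 t = xd F 12 t * xd F 15 u :=
  swap_none F (by decide +kernel) (by decide +kernel) (by decide) (by decide +kernel) (by decide +kernel) t u

theorem c21_12 (t u : F) :
    xd F 21 u * xd F 12 t = xd F 12 t * (xd F 21 u * xd F 22 (t * u)) :=
  swap_one F (by decide +kernel) (by decide +kernel) (by decide) (by decide +kernel) (by decide +kernel) t u

omit [CharP F 2] in
theorem c20_12 (t u : F) : xd F 20 u * xd F 12 t = xd F 12 t * xd F 20 u :=
  swap_none F (by decide +kernel) (by decide +kernel) (by decide) (by decide +kernel) (by decide +kernel) t u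

omit [CharP F 2] in
theorem c17_12 (t u : F) : xd F 17 u * xd F 12 t = xd F 12 t * xd F 17 u :=
  swap_none F (by decide +kernel) (by decide +kernel) (by decide) (by decide +kernel) (by decide +kernel) t u

omit [CharP F 2] in
theorem c22_12 (t u : F) : xd F 22 u * xd F 12 t = xd F 12 t * xd F 22 u :=
  swap_none F (by decide +kernel) (by decide +kernel) (by decide) (by decide +kernel) (by decide +kernel) t u

omit [CharP F 2] in
theorem c23_12 (t u : F) : xd F 23 u * xd F 12 t = xd F 12 t * xd F 23 u :=
  swap_none F (by decide +kernel) (by decide +kernel) (by decide) (by decide +kernel) (by decide +kernel) t u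

omit [CharP F 2] in
theorem c16_19 (t u : F) : xd F 16 u * xd F 19 t = xd F 19 t * xd F 16 u :=
  swap_none F (by decide +kernel) (by decide +kernel) (by decide) (by decide +kernel) (by decide +kernel) t u

omit [CharP F 2] in
theorem c15_19 (t u : F) : xd F 15 u * xd F 19 t = xd F 19 t * xd F 15 u :=
  swap_none F (by decide +kernel) (by decide +kernel) (by decide) (by decide +kernel) (by decide +kernel) t u

omit [CharP F 2] in
theorem c21_19 (t u : F) : xd F 21 u * xd F 19 t = xd F 19 t * xd F 21 u :=
  swap_none F (by decide +kernel) (by decide +kernel) (by decide) (by decide +kernel) (by decide +kernel) t u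

omit [CharP F 2] in
theorem c20_19 (t u : F) : xd F 20 u * xd F 19 t = xd F 19 t * xd F 20 u :=
  swap_none F (by decide +kernel) (by decide +kernel) (by decide) (by decide +kernel) (by decide +kernel) t u

theorem c17_19 (t u : F) :
    xd F 17 u * xd F 19 t = xd F 19 t * (xd F 17 u * xd F 23 (t * u)) :=
  swap_one F (by decide +kernel) (by decide +kernel) (by decide) (by decide +kernel) (by decide +kernel) t u

omit [CharP F 2] in
theorem c22_19 (t u : F) : xd F 22 u * xd F 19 t = xd F 19 t * xd F 22 u :=
  swap_none F (by decide +kernel) (by decide +kernel) (by decide) (by decide +kernel) (by decide +kernel) t u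

omit [CharP F 2] in
theorem c23_19 (t u : F) : xd F 23 u * xd F 19 t = xd F 19 t * xd F 23 u :=
  swap_none F (by decide +kernel) (by decide +kernel) (by decide) (by decide +kernel) (by decide +kernel) t u

omit [CharP F 2] in
theorem c15_16 (t u : F) : xd F 15 u * xd F 16 t = xd F 16 t * xd F 15 u :=
  swap_none F (by decide +kernel) (by decide +kernel) (by decide) (by decide +kernel) (by decide +kernel) t u

omit [CharP F 2] in
theorem c21_16 (t u : F) : xd F 21 u * xd F 16 t = xd F 16 t * xd F 21 u :=
  swap_none F (by decide +kernel) (by decide +kernel) (by decide) (by decide +kernel) (by decide +kernel) t u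

theorem c20_16 (t u : F) :
    xd F 20 u * xd F 16 t = xd F 16 t * (xd F 20 u * xd F 23 (t * u)) :=
  swap_one F (by decide +kernel) (by decide +kernel) (by decide) (by decide +kernel) (by decide +kernel) t u

omit [CharP F 2] in
theorem c17_16 (t u : F) : xd F 17 u * xd F 16 t = xd F 16 t * xd F 17 u :=
  swap_none F (by decide +kernel) (by decide +kernel) (by decide) (by decide +kernel) (by decide +kernel) t u

omit [CharP F 2] in
theorem c22_16 (t u : F) : xd F 22 u * xd F 16 t = xd F 16 t * xd F 22 u :=
  swap_none F (by decide +kernel) (by decide +kernel) (by decide) (by decide +kernel) (by decide +kernel) t u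

omit [CharP F 2] in
theorem c23_16 (t u : F) : xd F 23 u * xd F 16 t = xd F 16 t * xd F 23 u :=
  swap_none F (by decide +kernel) (by decide +kernel) (by decide) (by decide +kernel) (by decide +kernel) t u

theorem c21_15 (t u : F) :
    xd F 21 u * xd F 15 t = xd F 15 t * (xd F 21 u * xd F 23 (t * u)) :=
  swap_one F (by decide +kernel) (by decide +kernel) (by decide) (by decide +kernel) (by decide +kernel) t u

omit [CharP F 2] in
theorem c20_15 (t u : F) : xd F 20 u * xd F 15 t = xd F 15 t * xd F 20 u :=
  swap_none F (by decide +kernel) (by decide +kernel) (by decide) (by decide +kernel) (by decide +kernel) t u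

omit [CharP F 2] in
theorem c17_15 (t u : F) : xd F 17 u * xd F 15 t = xd F 15 t * xd F 17 u :=
  swap_none F (by decide +kernel) (by decide +kernel) (by decide) (by decide +kernel) (by decide +kernel) t u

omit [CharP F 2] in
theorem c22_15 (t u : F) : xd F 22 u * xd F 15 t = xd F 15 t * xd F 22 u :=
  swap_none F (by decide +kernel) (by decide +kernel) (by decide) (by decide +kernel) (by decide +kernel) t u

omit [CharP F 2] in
theorem c23_15 (t u : F) : xd F 23 u * xd F 15 t = xd F 15 t * xd F 23 u :=
  swap_none F (by decide +kernel) (by decide +kernel) (by decide) (by decide +kernel) (by decide +kernel) t u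

omit [CharP F 2] in
theorem c20_21 (t u : F) : xd F 20 u * xd F 21 t = xd F 21 t * xd F 20 u :=
  swap_none F (by decide +kernel) (by decide +kernel) (by decide) (by decide +kernel) (by decide +kernel) t u

omit [CharP F 2] in
theorem c17_21 (t u : F) : xd F 17 u * xd F 21 t = xd F 21 t * xd F 17 u :=
  swap_none F (by decide +kernel) (by decide +kernel) (by decide) (by decide +kernel) (by decide +kernel) t u

omit [CharP F 2] in
theorem c22_21 (t u : F) : xd F 22 u * xd F 21 t = xd F 21 t * xd F 22 u :=
  swap_none F (by decide +kernel) (by decide +kernel) (by decide) (by decide +kernel) (by decide +kernel) t u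

omit [CharP F 2] in
theorem c23_21 (t u : F) : xd F 23 u * xd F 21 t = xd F 21 t * xd F 23 u :=
  swap_none F (by decide +kernel) (by decide +kernel) (by decide) (by decide +kernel) (by decide +kernel) t u

omit [CharP F 2] in
theorem c17_20 (t u : F) : xd F 17 u * xd F 20 t = xd F 20 t * xd F 17 u :=
  swap_none F (by decide +kernel) (by decide +kernel) (by decide) (by decide +kernel) (by decide +kernel) t u

omit [CharP F 2] in
theorem c22_20 (t u : F) : xd F 22 u * xd F 20 t = xd F 20 t * xd F 22 u :=
  swap_none F (by decide +kernel) (by decide +kernel) (by decide) (by decide +kernel) (by decide +kernel) t u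

omit [CharP F 2] in
theorem c23_20 (t u : F) : xd F 23 u * xd F 20 t = xd F 20 t * xd F 23 u :=
  swap_none F (by decide +kernel) (by decide +kernel) (by decide) (by decide +kernel) (by decide +kernel) t u

omit [CharP F 2] in
theorem c22_17 (t u : F) : xd F 22 u * xd F 17 t = xd F 17 t * xd F 22 u :=
  swap_none F (by decide +kernel) (by decide +kernel) (by decide) (by decide +kernel) (by decide +kernel) t u

omit [CharP F 2] in
theorem c23_17 (t u : F) : xd F 23 u * xd F 17 t = xd F 17 t * xd F 23 u :=
  swap_none F (by decide +kernel) (by decide +kernel) (by decide) (by decide +kernel) (by decide +kernel) t u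

omit [CharP F 2] in
theorem c23_22 (t u : F) : xd F 23 u * xd F 22 t = xd F 22 t * xd F 23 u :=
  swap_none F (by decide +kernel) (by decide +kernel) (by decide) (by decide +kernel) (by decide +kernel) t u

omit [CharP F 2] in
theorem lift_eq {G : Type*} [Monoid G] {x y z : G} (h : x * y = z) (g : G) :
    x * (y * g) = z * g := by rw [← mul_assoc, h]

omit [CharP F 2] in
theorem xd_merge (r : ℕ) (t u : F) : xd F r t * xd F r u = xd F r (t + u) := sysD4.xG_add F r t u

set_option maxHeartbeats 4000000 in
/-- The multiplication of `U` in coordinates. -/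
theorem uD_mul (b a1 a2 a3 c1 c2 c3 d1 d2 d3 e f B A1 A2 A3 C1 C2 C3 D1 D2 D3 E G : F) :
    uD F b a1 a2 a3 c1 c2 c3 d1 d2 d3 e f * uD F B A1 A2 A3 C1 C2 C3 D1 D2 D3 E G =
      uD F (B + b)
        (A1 + a1)
        (A2 + a2)
        (A3 + a3)
        (C1 + c1 + B * a1)
        (C2 + c2 + B * a2)
        (C3 + c3 + B * a3)
        (D1 + d1 + A1 * c2 + A2 * c1 + A1 * B * a2 + A2 * B * a1 + B * a1 * a2)
        (D2 + d2 + A1 * c3 + A3 * c1 + A1 * B * a3 + A3 * B * a1 + B * a1 * a3)
        (D3 + d3 + A2 * c3 + A3 * c2 + A2 * B * a3 + A3 * B * a2 + B * a2 * a3)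
        (E + e + A1 * d3 + A2 * d2 + A3 * d1 + A1 * A2 * c3 + A1 * A3 * c2 + A2 * A3 * c1 + A1 * A2 * B * a3 + A1 * A3 * B * a2 + A1 * B * a2 * a3 + A2 * A3 * B * a1 + A2 * B * a1 * a3 + A3 * B * a1 * a2 + B * a1 * a2 * a3)
        (G + f + B * e + C1 * d3 + C2 * d2 + C3 * d1 + A1 * C2 * c3 + A1 * C3 * c2 + A1 * c2 * c3 + A2 * C1 * c3 + A2 * C3 * c1 + A2 * c1 * c3 + A3 * C1 * c2 + A3 * C2 * c1 + A3 * c1 * c2 + A1 * B * C2 * a3 + A1 * B * C3 * a2 + A1 * B * a2 * c3 + A1 * B * a3 * c2 + A2 * B * C1 * a3 + A2 * B * C3 * a1 + A2 * B * a1 * c3 + A2 * B * a3 * c1 + A3 * B * C1 * a2 + A3 * B * C2 * a1 + A3 * B * a1 * c2 + A3 * B * a2 * c1 + B * C1 * a2 * a3 + B * C2 * a1 * a3 + B * C3 * a1 * a2 + B * a1 * a2 * c3 + B * a1 * a3 * c2 + B * a2 * a3 * c1 + A1 * B * B * a2 * a3 + A2 * B * B * a1 * a3 + A3 * B * B * a1 * a2) := by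
  simp only [uD, mul_assoc, xd_merge, lift_eq (xd_merge F _ _ _),
    
    c18_14 F, lift_eq (c18_14 F _ _), c13_14 F, lift_eq (c13_14 F _ _), c12_14 F, lift_eq (c12_14 F _ _),
    c19_14 F, lift_eq (c19_14 F _ _), c16_14 F, lift_eq (c16_14 F _ _), c15_14 F, lift_eq (c15_14 F _ _),
    c21_14 F, lift_eq (c21_14 F _ _), c20_14 F, lift_eq (c20_14 F _ _), c17_14 F, lift_eq (c17_14 F _ _),
    c22_14 F, lift_eq (c22_14 F _ _), c23_14 F, lift_eq (c23_14 F _ _), c13_18 F, lift_eq (c13_18 F _ _),
    c12_18 F, lift_eq (c12_18 F _ _), c19_18 F, lift_eq (c19_18 F _ _), c16_18 F, lift_eq (c16_18 F _ _),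
    c15_18 F, lift_eq (c15_18 F _ _), c21_18 F, lift_eq (c21_18 F _ _), c20_18 F, lift_eq (c20_18 F _ _),
    c17_18 F, lift_eq (c17_18 F _ _), c22_18 F, lift_eq (c22_18 F _ _), c23_18 F, lift_eq (c23_18 F _ _),
    c12_13 F, lift_eq (c12_13 F _ _), c19_13 F, lift_eq (c19_13 F _ _), c16_13 F, lift_eq (c16_13 F _ _),
    c15_13 F, lift_eq (c15_13 F _ _), c21_13 F, lift_eq (c21_13 F _ _), c20_13 F, lift_eq (c20_13 F _ _),
    c17_13 F, lift_eq (c17_13 F _ _), c22_13 F, lift_eq (c22_13 F _ _), c23_13 F, lift_eq (c23_13 F _ _),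
    c19_12 F, lift_eq (c19_12 F _ _), c16_12 F, lift_eq (c16_12 F _ _), c15_12 F, lift_eq (c15_12 F _ _),
    c21_12 F, lift_eq (c21_12 F _ _), c20_12 F, lift_eq (c20_12 F _ _), c17_12 F, lift_eq (c17_12 F _ _),
    c22_12 F, lift_eq (c22_12 F _ _), c23_12 F, lift_eq (c23_12 F _ _), c16_19 F, lift_eq (c16_19 F _ _),
    c15_19 F, lift_eq (c15_19 F _ _), c21_19 F, lift_eq (c21_19 F _ _), c20_19 F, lift_eq (c20_19 F _ _),
    c17_19 F, lift_eq (c17_19 F _ _), c22_19 F, lift_eq (c22_19 F _ _), c23_19 F, lift_eq (c23_19 F _ _),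
    c15_16 F, lift_eq (c15_16 F _ _), c21_16 F, lift_eq (c21_16 F _ _), c20_16 F, lift_eq (c20_16 F _ _),
    c17_16 F, lift_eq (c17_16 F _ _), c22_16 F, lift_eq (c22_16 F _ _), c23_16 F, lift_eq (c23_16 F _ _),
    c21_15 F, lift_eq (c21_15 F _ _), c20_15 F, lift_eq (c20_15 F _ _), c17_15 F, lift_eq (c17_15 F _ _),
    c22_15 F, lift_eq (c22_15 F _ _), c23_15 F, lift_eq (c23_15 F _ _), c20_21 F, lift_eq (c20_21 F _ _),
    c17_21 F, lift_eq (c17_21 F _ _), c22_21 F, lift_eq (c22_21 F _ _), c23_21 F, lift_eq (c23_21 F _ _),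
    c17_20 F, lift_eq (c17_20 F _ _), c22_20 F, lift_eq (c22_20 F _ _), c23_20 F, lift_eq (c23_20 F _ _),
    c22_17 F, lift_eq (c22_17 F _ _), c23_17 F, lift_eq (c23_17 F _ _), c23_22 F, lift_eq (c23_22 F _ _)]
  ring_nf
  simp only [CharTwo.two_eq_zero (R := F), mul_zero, zero_mul, add_zero, zero_add]

end CfsgLib.TwistedLie.D4E
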