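import Cfsg.Agent.TwistedLie.D4Facts

/-!
The radical of the parabolic subgroup of `³D₄(q)` attached to the highest root, and its conjugates of
root elements.
-/

set_option autoImplicit false

namespace CfsgLib.TwistedLie.D4

open Cfsg.Lie CfsgLib.Chevalley
open scoped commutatorElement

local notation "S" => sysD4

variable {K : Type*} [Field K]

theorem comm_of {r s : ℕ} (hr : r < chevD4.nroots) (hs : s < chevD4.nroots) (h1 : s ≠ r)
    (h2 : s ≠ chevD4.neg r) (h : chevD4.commTerms r s = []) (t u : K) :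
    Sys.xG S K r t * Sys.xG S K s u = Sys.xG S K s u * Sys.xG S K r t :=
  by
  have e := Sys.xG_comm S K hr hs h1 h2 t u
  rw [show Sys.wG S K (chevD4.commWord K r s t u) = 1 by
    simp [ChevalleyDatum.commWord, h, Sys.wG], mul_one, mul_assoc, inv_mul_eq_iff_eq_mul] at e
  exact e.symm

theorem swap_of {r s w : ℕ} {C : ℤ} (hr : r < chevD4.nroots) (hs : s < chevD4.nroots) (h1 : s ≠ r)
    (h2 : s ≠ chevD4.neg r) (h : chevD4.commTerms r s = [(w, C, 1, 1)]) (t u : K) :
    Sys.xG S K s u * Sys.xG S K r t =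
      Sys.xG S K r t * Sys.xG S K s u * Sys.xG S K w (-((C : K) * t * u)) := by
  have e := Sys.xG_comm S K hr hs h1 h2 t u
  have e' : Sys.wG S K (chevD4.commWord K r s t u) = Sys.xG S K w (-((C : K) * t * u)) := by
    simp [ChevalleyDatum.commWord, h, Sys.wG, mul_assoc]
  rw [e'] at e
  rw [mul_assoc (Sys.xG S K r t), ← e, mul_assoc, mul_inv_cancel_left]

theorem conj_of {r s w : ℕ} {C : ℤ} (hr : r < chevD4.nroots) (hs : s < chevD4.nroots) (h1 : s ≠ r)
    (h2 : s ≠ chevD4.neg r) (h : chevD4.commTerms r s = [(w, C, 1, 1)]) (a u : K) :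
    Sys.xG S K r a * Sys.xG S K s u * (Sys.xG S K r a)⁻¹ =
      Sys.xG S K s u * Sys.xG S K w ((C : K) * a * u) := by
  rw [Sys.xG_inv, mul_assoc, swap_of hr hs h1 h2 h (-a) u, ← mul_assoc, ← mul_assoc, Sys.xG_add,
    add_neg_cancel, Sys.xG_zero, one_mul, mul_neg, neg_mul, neg_neg]

theorem conj_fix {r s : ℕ} (hr : r < chevD4.nroots) (hs : s < chevD4.nroots) (h1 : s ≠ r)
    (h2 : s ≠ chevD4.neg r) (h : chevD4.commTerms r s = []) (a u : K) :
    Sys.xG S K r a * Sys.xG S K s u * (Sys.xG S K r a)⁻¹ = Sys.xG S K s u := by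
  rw [comm_of hr hs h1 h2 h, mul_inv_cancel_right]

/-- The first triple of the radical. -/
noncomputable def U1 (q : ℕ) (A : K) : GL chevD4.Idx K :=
  Sys.xG S K 19 A * Sys.xG S K 16 (-A ^ q) * Sys.xG S K 15 (-A ^ (q ^ 2))

/-- The second triple of the radical. -/
noncomputable def U2 (q : ℕ) (B : K) : GL chevD4.Idx K :=
  Sys.xG S K 17 B * Sys.xG S K 20 (-B ^ q) * Sys.xG S K 21 (-B ^ (q ^ 2))

/-- The roots of the radical and of the positive part of its Levi complement. -/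
abbrev qRoots : List ℕ := [14, 15, 16, 17, 19, 20, 21, 22, 23]

theorem pos_of (r : ℕ) (hr : 12 ≤ r) (hr' : r < 24) (t : K) :
    Sys.xG S K r t ∈ chevD4.posUnipotent K := by
  rw [Sys.posUnipotent_eq S]
  exact Subgroup.subset_closure ⟨r, ⟨hr, hr'⟩, t, rfl⟩

theorem top_comm_pos {g : GL chevD4.Idx K} (hg : g ∈ chevD4.posUnipotent K) (t : K) :
    g * Sys.xG S K 23 t = Sys.xG S K 23 t * g := by
  rw [Sys.posUnipotent_eq S] at hg
  induction hg using Subgroup.closure_induction with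
  | mem x hx =>
    obtain ⟨r, ⟨h12, h24⟩, c, rfl⟩ := hx
    rcases eq_or_ne r 23 with rfl | hne
    · rw [Sys.xG_add, Sys.xG_add, add_comm]
    · have := (by decide +kernel : ∀ r < 24, 12 ≤ r → r ≠ 23 →
        chevD4.commTerms r 23 = [] ∧ 23 ≠ chevD4.neg r) r h24 h12 hne
      exact comm_of (by exact h24) (by decide) hne.symm this.2 this.1 c t
  | one => rw [one_mul, mul_one]
  | mul x y _ _ hx hy => rw [mul_assoc, hy, ← mul_assoc, hx, mul_assoc]
  | inv x _ hx => rw [inv_mul_eq_iff_eq_mul, ← mul_assoc, hx, mul_inv_cancel_right]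

theorem U1_pos (q : ℕ) (A : K) : U1 q A ∈ chevD4.posUnipotent K :=
  mul_mem (mul_mem (pos_of 19 (by norm_num) (by norm_num) _) (pos_of 16 (by norm_num) (by norm_num) _))
    (pos_of 15 (by norm_num) (by norm_num) _)

theorem U2_pos (q : ℕ) (B : K) : U2 q B ∈ chevD4.posUnipotent K :=
  mul_mem (mul_mem (pos_of 17 (by norm_num) (by norm_num) _) (pos_of 20 (by norm_num) (by norm_num) _))
    (pos_of 21 (by norm_num) (by norm_num) _)

theorem P_pos (q : ℕ) (s : K) : P q s ∈ chevD4.posUnipotent K :=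
  mul_mem (mul_mem (pos_of 18 (by norm_num) (by norm_num) _) (pos_of 13 (by norm_num) (by norm_num) _))
    (pos_of 12 (by norm_num) (by norm_num) _)

theorem conj_P_raw (q : ℕ) (s t : K) :
    P q s * Sys.xG S K 14 t * (P q s)⁻¹ =
      Sys.xG S K 14 t * Sys.xG S K 19 (-(s * t)) *
        (Sys.xG S K 16 (s ^ q * t) * Sys.xG S K 21 (-(s * s ^ q * t))) *
        (Sys.xG S K 15 (s ^ (q ^ 2) * t) * Sys.xG S K 20 (-(s * s ^ (q ^ 2) * t))) *
        (Sys.xG S K 17 (s ^ q * s ^ (q ^ 2) * t) * Sys.xG S K 22 (-(s * s ^ q * s ^ (q ^ 2) * t))) := by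
  have c1 : Sys.xG S K 12 (s ^ (q ^ 2)) * Sys.xG S K 14 t * (Sys.xG S K 12 (s ^ (q ^ 2)))⁻¹ =
      Sys.xG S K 14 t * Sys.xG S K 15 (s ^ (q ^ 2) * t) := by
    rw [conj_of (r := 12) (s := 14) (w := 15) (C := 1) (by decide) (by decide) (by decide) (by decide +kernel) (by decide +kernel)]
    congr 2
    push_cast
    ring
  have c2 : ∀ u, Sys.xG S K 13 (s ^ q) * Sys.xG S K 14 u * (Sys.xG S K 13 (s ^ q))⁻¹ =
      Sys.xG S K 14 u * Sys.xG S K 16 (s ^ q * u) := fun u => by
    rw [conj_of (r := 13) (s := 14) (w := 16) (C := 1) (by decide) (by decide) (by decide) (by decide +kernel) (by decide +kernel)]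
    congr 2
    push_cast
    ring
  have c3 : ∀ u, Sys.xG S K 13 (s ^ q) * Sys.xG S K 15 u * (Sys.xG S K 13 (s ^ q))⁻¹ =
      Sys.xG S K 15 u * Sys.xG S K 17 (s ^ q * u) := fun u => by
    rw [conj_of (r := 13) (s := 15) (w := 17) (C := 1) (by decide) (by decide) (by decide) (by decide +kernel) (by decide +kernel)]
    congr 2
    push_cast
    ring
  have c4 : ∀ u, Sys.xG S K 18 s * Sys.xG S K 14 u * (Sys.xG S K 18 s)⁻¹ =
      Sys.xG S K 14 u * Sys.xG S K 19 (-(s * u)) := fun u => by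
    rw [conj_of (r := 18) (s := 14) (w := 19) (C := -1) (by decide) (by decide) (by decide) (by decide +kernel) (by decide +kernel)]
    congr 2
    push_cast
    ring
  have c5 : ∀ u, Sys.xG S K 18 s * Sys.xG S K 16 u * (Sys.xG S K 18 s)⁻¹ =
      Sys.xG S K 16 u * Sys.xG S K 21 (-(s * u)) := fun u => by
    rw [conj_of (r := 18) (s := 16) (w := 21) (C := -1) (by decide) (by decide) (by decide) (by decide +kernel) (by decide +kernel)]
    congr 2
    push_cast
    ring
  have c6 : ∀ u, Sys.xG S K 18 s * Sys.xG S K 15 u * (Sys.xG S K 18 s)⁻¹ =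
      Sys.xG S K 15 u * Sys.xG S K 20 (-(s * u)) := fun u => by
    rw [conj_of (r := 18) (s := 15) (w := 20) (C := -1) (by decide) (by decide) (by decide) (by decide +kernel) (by decide +kernel)]
    congr 2
    push_cast
    ring
  have c7 : ∀ u, Sys.xG S K 18 s * Sys.xG S K 17 u * (Sys.xG S K 18 s)⁻¹ =
      Sys.xG S K 17 u * Sys.xG S K 22 (-(s * u)) := fun u => by
    rw [conj_of (r := 18) (s := 17) (w := 22) (C := -1) (by decide) (by decide) (by decide) (by decide +kernel) (by decide +kernel)]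
    congr 2
    push_cast
    ring
  rw [P, show Sys.xG S K 18 s * Sys.xG S K 13 (s ^ q) * Sys.xG S K 12 (s ^ (q ^ 2)) * Sys.xG S K 14 t *
      (Sys.xG S K 18 s * Sys.xG S K 13 (s ^ q) * Sys.xG S K 12 (s ^ (q ^ 2)))⁻¹ =
    Sys.xG S K 18 s * (Sys.xG S K 13 (s ^ q) *
      (Sys.xG S K 12 (s ^ (q ^ 2)) * Sys.xG S K 14 t * (Sys.xG S K 12 (s ^ (q ^ 2)))⁻¹) *
      (Sys.xG S K 13 (s ^ q))⁻¹) * (Sys.xG S K 18 s)⁻¹ by group,
    c1]
  have d1 : ∀ a b, Sys.xG S K 13 (s ^ q) * (Sys.xG S K 14 a * Sys.xG S K 15 b) *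
      (Sys.xG S K 13 (s ^ q))⁻¹ = Sys.xG S K 14 a * Sys.xG S K 16 (s ^ q * a) *
        (Sys.xG S K 15 b * Sys.xG S K 17 (s ^ q * b)) := fun a b => by
    rw [← c2, ← c3]; group
  have d2 : ∀ a b c d, Sys.xG S K 18 s * (Sys.xG S K 14 a * Sys.xG S K 16 b *
      (Sys.xG S K 15 c * Sys.xG S K 17 d)) * (Sys.xG S K 18 s)⁻¹ =
        Sys.xG S K 14 a * Sys.xG S K 19 (-(s * a)) * (Sys.xG S K 16 b * Sys.xG S K 21 (-(s * b))) *
        (Sys.xG S K 15 c * Sys.xG S K 20 (-(s * c)) * (Sys.xG S K 17 d * Sys.xG S K 22 (-(s * d)))) :=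
    fun a b c d => by rw [← c4, ← c5, ← c6, ← c7]; group
  rw [d1, d2]
  simp only [mul_assoc]

section

variable [Fintype K] {q : ℕ} (hq : IsPrimePow q) (hK : Fintype.card K = q ^ 3)
include hq hK

theorem sigma_x_neg {r : ℕ} (hr : r < chevD4.nroots) (he : symE 2785620 r = -1) (t : K) :
    sigma hq hK (Sys.xG S K r t) = Sys.xG S K (pA r) (-t ^ q) := by
  rw [sigma, twistHom_x S K graphD4a _ hr, he, Int.cast_neg, Int.cast_one, neg_one_mul, phi_apply]

omit [Fintype K] hq hK in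
theorem pq2' (t : K) : (t ^ q) ^ q = t ^ (q ^ 2) := by rw [← pow_mul, ← sq]

theorem pq2 (t : K) : (t ^ q) ^ q = t ^ (q ^ 2) := by
  have := hq; have := hK; exact pq2' t

theorem pq3 (t : K) : (t ^ (q ^ 2)) ^ q = t := by rw [← pq2 hq hK, pow_q3 hq hK]

theorem mem_of_fixed {g : GL chevD4.Idx K} (hg : g ∈ chevD4.posUnipotent K)
    (hfix : sigma hq hK g = g) : g ∈ chevD4.genSubgroup K (d4Words K q) := by
  refine (tw hq hK).flipFix_le_G [0, 1, 0, 1, 0, 1] ((tw hq hK).mem_flipFix.2 ⟨?_, hfix⟩)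
  rw [Sys.posUnipotent_eq S] at hg
  refine (Subgroup.closure_le _).2 ?_ hg
  rintro _ ⟨r, ⟨h12, h24⟩, t, rfl⟩
  refine Sys.xG_mem_uSub S K (P := Sys.flipSet S K ((tw hq hK).nW [0, 1, 0, 1, 0, 1]))
    ⟨h24, ?_⟩ h12 h24 t
  rw [(tw hq hK).perm_nW]
  show (Sys.wperm S ([0, 1, 0, 1, 0, 1].flatMap blkF) ⟨r, h24⟩ : ℕ) < _
  rw [wperm_flat]
  exact (by decide +kernel : ∀ s : Fin chevD4.nroots, chevD4.nroots / 2 ≤ (s : ℕ) →
    wL chevD4 (wdN [0, 1, 0, 1, 0, 1]) (s : ℕ) < chevD4.nroots / 2) ⟨r, h24⟩ h12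

theorem U1_mem (A : K) : U1 q A ∈ chevD4.genSubgroup K (d4Words K q) := by
  refine mem_of_fixed hq hK (U1_pos q A) ?_
  rw [U1, map_mul, map_mul, sigma_x_neg hq hK (by decide) (by decide +kernel),
    sigma_x hq hK (r := 16) (by decide) (by decide +kernel),
    sigma_x_neg hq hK (r := 15) (by decide) (by decide +kernel),
    show pA 19 = 16 by decide +kernel, show pA 16 = 15 by decide +kernel,
    show pA 15 = 19 by decide +kernel, negq hq hK, negq hq hK, neg_neg, pq2 hq hK, pq3 hq hK,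
    mul_assoc (Sys.xG S K 16 _), comm_of (r := 15) (s := 19) (by decide) (by decide) (by decide)
      (by decide +kernel) (by decide +kernel), ← mul_assoc,
    comm_of (r := 16) (s := 19) (by decide) (by decide) (by decide) (by decide +kernel)
      (by decide +kernel)]

theorem U2_mem (B : K) : U2 q B ∈ chevD4.genSubgroup K (d4Words K q) := by
  refine mem_of_fixed hq hK (U2_pos q B) ?_
  rw [U2, map_mul, map_mul, sigma_x_neg hq hK (by decide) (by decide +kernel),
    sigma_x hq hK (r := 20) (by decide) (by decide +kernel),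
    sigma_x_neg hq hK (r := 21) (by decide) (by decide +kernel),
    show pA 17 = 20 by decide +kernel, show pA 20 = 21 by decide +kernel,
    show pA 21 = 17 by decide +kernel, negq hq hK, negq hq hK, neg_neg, pq2 hq hK, pq3 hq hK,
    mul_assoc (Sys.xG S K 20 _), comm_of (r := 21) (s := 17) (by decide) (by decide) (by decide)
      (by decide +kernel) (by decide +kernel), ← mul_assoc,
    comm_of (r := 20) (s := 17) (by decide) (by decide) (by decide) (by decide +kernel)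
      (by decide +kernel)]

theorem fix_pos_mem {r : ℕ} (h : r = 14 ∨ r = 22 ∨ r = 23) {t : K} (ht : t ^ q = t) :
    Sys.xG S K r t ∈ chevD4.genSubgroup K (d4Words K q) := by
  rcases h with rfl | rfl | rfl
  · exact fix_mem (Or.inl rfl) ht
  all_goals
    refine mem_of_fixed hq hK (pos_of _ (by norm_num) (by norm_num) t) ?_
    rw [sigma_x hq hK (by decide) (by decide +kernel), ht]
    congr 1

omit hq hK

/-- Conjugating a simple root element by an element of the Levi part, modulo the centre. -/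
theorem conj_P_root (hq : IsPrimePow q) (hK : Fintype.card K = q ^ 3) (s : K) {t : K}
    (ht : t ^ q = t) : ∃ v : K, v ^ q = v ∧
    P q s * Sys.xG S K 14 t * (P q s)⁻¹ =
      Sys.xG S K 14 t * U1 q (-(s * t)) * (U2 q (s ^ q * s ^ (q ^ 2) * t) *
        Sys.xG S K 22 (-(s * s ^ q * s ^ (q ^ 2) * t))) * Sys.xG S K 23 v := by
  have ht2 : t ^ (q ^ 2) = t := by rw [← pq2 hq hK, ht, ht]
  have e1 : (-(s * t)) ^ q = -(s ^ q * t) := by rw [negq hq hK, mul_pow, ht]
  have e2 : (-(s * t)) ^ (q ^ 2) = -(s ^ (q ^ 2) * t) := by rw [negq2 hq hK, mul_pow, ht2]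
  have e3 : (s ^ q * s ^ (q ^ 2) * t) ^ q = s * s ^ (q ^ 2) * t := by
    rw [mul_pow, mul_pow, pq2 hq hK, pq3 hq hK, ht]; ring
  have e4 : (s ^ q * s ^ (q ^ 2) * t) ^ (q ^ 2) = s * s ^ q * t := by
    rw [← pq2 hq hK, e3, mul_pow, mul_pow, pq3 hq hK, ht]; ring
  set A21 := -(s * s ^ q * t)
  set A15 := s ^ (q ^ 2) * t
  set a17 := s ^ q * s ^ (q ^ 2) * t
  set a20 := -(s * s ^ (q ^ 2) * t)
  set a22 := -(s * s ^ q * s ^ (q ^ 2) * t)
  have hz : ∀ r, 12 ≤ r → r < 24 → ∀ a u : K, Sys.xG S K 23 u * Sys.xG S K r a =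
      Sys.xG S K r a * Sys.xG S K 23 u := fun r h h' a u => (top_comm_pos (pos_of r h h' a) u).symm
  have hsw := swap_of (K := K) (r := 15) (s := 21) (w := 23) (C := -1) (by decide) (by decide)
    (by decide) (by decide +kernel) (by decide +kernel) A15 A21
  have c1 := comm_of (K := K) (r := 21) (s := 20) (by decide) (by decide) (by decide)
    (by decide +kernel) (by decide +kernel) A21 a20
  have c2 := comm_of (K := K) (r := 20) (s := 17) (by decide) (by decide) (by decide)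
    (by decide +kernel) (by decide +kernel) a20 a17
  have c3 := comm_of (K := K) (r := 21) (s := 17) (by decide) (by decide) (by decide)
    (by decide +kernel) (by decide +kernel) A21 a17
  set v := -(((-1 : ℤ) : K) * A15 * A21)
  have hshuf : Sys.xG S K 21 A21 * (Sys.xG S K 15 A15 * Sys.xG S K 20 a20) *
      (Sys.xG S K 17 a17 * Sys.xG S K 22 a22) =
      Sys.xG S K 15 A15 * (Sys.xG S K 17 a17 * Sys.xG S K 20 a20 * Sys.xG S K 21 A21 *
        Sys.xG S K 22 a22) * Sys.xG S K 23 v := by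
    calc Sys.xG S K 21 A21 * (Sys.xG S K 15 A15 * Sys.xG S K 20 a20) *
        (Sys.xG S K 17 a17 * Sys.xG S K 22 a22)
        = Sys.xG S K 15 A15 * Sys.xG S K 21 A21 * (Sys.xG S K 23 v * Sys.xG S K 20 a20) *
          (Sys.xG S K 17 a17 * Sys.xG S K 22 a22) := by
          rw [← mul_assoc (Sys.xG S K 21 A21), hsw]; simp only [mul_assoc]
      _ = Sys.xG S K 15 A15 * (Sys.xG S K 21 A21 * Sys.xG S K 20 a20) *
          (Sys.xG S K 23 v * Sys.xG S K 17 a17 * Sys.xG S K 22 a22) := by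
          rw [hz 20 (by norm_num) (by norm_num)]; simp only [mul_assoc]
      _ = Sys.xG S K 15 A15 * (Sys.xG S K 21 A21 * Sys.xG S K 20 a20 * Sys.xG S K 17 a17) *
          (Sys.xG S K 23 v * Sys.xG S K 22 a22) := by
          rw [hz 17 (by norm_num) (by norm_num)]; simp only [mul_assoc]
      _ = _ := by
          rw [hz 22 (by norm_num) (by norm_num), c1, mul_assoc (Sys.xG S K 20 a20), c3,
            ← mul_assoc (Sys.xG S K 20 a20), c2]
          simp only [mul_assoc]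
  have heq : P q s * Sys.xG S K 14 t * (P q s)⁻¹ =
      Sys.xG S K 14 t * U1 q (-(s * t)) * (U2 q a17 * Sys.xG S K 22 a22) * Sys.xG S K 23 v := by
    rw [conj_P_raw, U1, U2, e1, e2, e3, e4, neg_neg, neg_neg]
    calc Sys.xG S K 14 t * Sys.xG S K 19 (-(s * t)) *
          (Sys.xG S K 16 (s ^ q * t) * Sys.xG S K 21 A21) *
          (Sys.xG S K 15 A15 * Sys.xG S K 20 a20) * (Sys.xG S K 17 a17 * Sys.xG S K 22 a22)
        = Sys.xG S K 14 t * Sys.xG S K 19 (-(s * t)) * Sys.xG S K 16 (s ^ q * t) *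
          (Sys.xG S K 21 A21 * (Sys.xG S K 15 A15 * Sys.xG S K 20 a20) *
            (Sys.xG S K 17 a17 * Sys.xG S K 22 a22)) := by simp only [mul_assoc]
      _ = _ := by rw [hshuf]; simp only [a20, A21, mul_assoc]
  refine ⟨v, ?_, heq⟩
  have htG := fix_mem (K := K) (q := q) (Or.inl rfl) ht
  have hN : a22 ^ q = a22 := by
    show (-(s * s ^ q * s ^ (q ^ 2) * t)) ^ q = _
    rw [negq hq hK, neg_inj, mul_pow, mul_pow, mul_pow, pq2 hq hK, pq3 hq hK, ht]; ring
  have hmem : Sys.xG S K 23 v ∈ chevD4.genSubgroup K (d4Words K q) := by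
    rw [show Sys.xG S K 23 v = (Sys.xG S K 14 t * U1 q (-(s * t)) * (U2 q a17 *
      Sys.xG S K 22 a22))⁻¹ * (P q s * Sys.xG S K 14 t * (P q s)⁻¹) by
        rw [heq, inv_mul_cancel_left]]
    exact mul_mem (inv_mem (mul_mem (mul_mem htG (U1_mem hq hK _))
      (mul_mem (U2_mem hq hK _) (fix_pos_mem hq hK (Or.inr (Or.inl rfl)) hN))))
      (mul_mem (mul_mem (P_mem _) htG) (inv_mem (P_mem _)))
  have hs := (tw hq hK).σ_mem hmem
  change sigma hq hK _ = _ at hs
  rw [sigma_x hq hK (by decide) (by decide +kernel), show pA 23 = 23 by decide +kernel] at hs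
  exact xG_inj S K (by decide) hs

end

end CfsgLib.TwistedLie.D4
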