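import Cfsg.Agent.TwistedLie.D4Heisenberg65
import Cfsg.Agent.WeightProj65
import Cfsg.Agent.S0135
import Mathlib.RepresentationTheory.Character
import Mathlib.RepresentationTheory.Irreducible

/-!
A lower bound for the degree of a non-trivial irreducible complex representation of `³D₄(q)`.
-/

set_option autoImplicit false

namespace CfsgLib.TwistedLie.D4.MinDeg65

open Cfsg.Lie CfsgLib.Chevalley CfsgLib.WeightProj65
open CfsgLib.TwistedLie.D4

local notation "S" => sysD4

/-! ### Moving an element past a product of three -/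

theorem swap_first {G : Type*} [Group G] {p a b x z : G} (h : p * x = x * p * z) (ha : Commute a x)
    (hb : Commute b x) (za : Commute z a) (zb : Commute z b) : p * a * b * x = x * (p * a * b) * z := by
  simp only [mul_assoc] at *
  rw [hb.eq, ← mul_assoc a x, ha.eq, mul_assoc x a, ← mul_assoc p, h, mul_assoc x, mul_assoc p,
    ← mul_assoc z a, za.eq, mul_assoc a z, zb.eq]

theorem swap_second {G : Type*} [Group G] {p a b x z : G} (h : a * x = x * a * z) (hp : Commute p x)
    (hb : Commute b x) (zb : Commute z b) : p * a * b * x = x * (p * a * b) * z := by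
  simp only [mul_assoc] at *
  rw [hb.eq, ← mul_assoc a x, h, mul_assoc x, mul_assoc a, zb.eq, ← mul_assoc p x, hp.eq, mul_assoc x]

theorem swap_third {G : Type*} [Group G] {p a b x z : G} (h : b * x = x * b * z) (hp : Commute p x)
    (ha : Commute a x) : p * a * b * x = x * (p * a * b) * z := by
  simp only [mul_assoc] at *
  rw [h, ← mul_assoc a x, ha.eq, mul_assoc x a, ← mul_assoc p x, hp.eq, mul_assoc x]

theorem swap_prod3 {G : Type*} [Group G] {u x₁ x₂ x₃ z₁ z₂ z₃ : G} (h₁ : u * x₁ = x₁ * u * z₁)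
    (h₂ : u * x₂ = x₂ * u * z₂) (h₃ : u * x₃ = x₃ * u * z₃) (c12 : Commute z₁ x₂) (c13 : Commute z₁ x₃)
    (c23 : Commute z₂ x₃) : u * (x₁ * x₂ * x₃) = x₁ * x₂ * x₃ * u * (z₃ * z₂ * z₁) :=
  calc u * (x₁ * x₂ * x₃) = x₁ * u * (z₁ * x₂) * x₃ := by simp only [← mul_assoc]; rw [h₁]
    _ = x₁ * (u * x₂) * (z₁ * x₃) := by rw [c12.eq]; simp only [mul_assoc]
    _ = x₁ * x₂ * u * (z₂ * x₃) * z₁ := by rw [c13.eq, h₂]; simp only [mul_assoc]
    _ = x₁ * x₂ * (u * x₃) * z₂ * z₁ := by rw [c23.eq]; simp only [mul_assoc]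
    _ = _ := by rw [h₃]; simp only [mul_assoc]

section

variable {K : Type*} [Field K] [Fintype K] {q : ℕ} (hq : IsPrimePow q)
  (hK : Fintype.card K = q ^ 3)

/-- The field of `q` elements inside `K`. -/
noncomputable abbrev F0 : Subfield K := (phi hq hK).eqLocusField (RingHom.id K)

theorem F0_pow (x : F0 hq hK) : (x : K) ^ q = x := by
  rw [← phi_apply hq hK]; exact x.2

theorem F0_mk {x : K} (h : x ^ q = x) : x ∈ F0 hq hK := (phi_apply hq hK x).trans h

theorem card_F0 : Nat.card (F0 hq hK) = q :=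
  (Nat.card_congr (Equiv.subtypeEquivRight fun _ => Iff.rfl)).trans
    (card_fixedAdd K hq hK (phi_apply hq hK))

theorem tr_mem (x : K) : x + x ^ q + x ^ (q ^ 2) ∈ F0 hq hK := by
  refine F0_mk hq hK ?_
  rw [addq hq hK, addq hq hK, pq2 hq hK, pq3 hq hK]
  abel

/-- The trace to the small field. -/
noncomputable def trF : K →+ F0 hq hK :=
  AddMonoidHom.mk' (fun x => ⟨x + x ^ q + x ^ (q ^ 2), tr_mem hq hK x⟩) fun x y => Subtype.ext (by
    show x + y + (x + y) ^ q + (x + y) ^ (q ^ 2) = x + x ^ q + x ^ (q ^ 2) + (y + y ^ q + y ^ (q ^ 2))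
    rw [addq hq hK, addq2 hq hK]
    abel)

theorem trF_val (x : K) : (trF hq hK x : K) = x + x ^ q + x ^ (q ^ 2) := rfl

theorem trF_mul (c : F0 hq hK) (x : K) : trF hq hK (x * c) = trF hq hK x * c := by
  refine Subtype.ext ?_
  have h2 : (c : K) ^ (q ^ 2) = c := by rw [← pq2 hq hK, F0_pow, F0_pow]
  show _ = (trF hq hK x : K) * c
  rw [trF_val, trF_val, mul_pow, mul_pow, F0_pow, h2, add_mul, add_mul]

theorem trF_surjective : Function.Surjective (trF hq hK) := by
  classical
  have h2 := hq.two_le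
  obtain ⟨x, hx⟩ : ∃ x : K, trF hq hK x ≠ 0 := by
    by_contra hcon
    push Not at hcon
    let Q : Polynomial K := Polynomial.X + Polynomial.X ^ q + Polynomial.X ^ (q ^ 2)
    have hlt : q < q ^ 2 := lt_self_pow₀ (by omega) (by norm_num)
    have hdeg : Q.natDegree = q ^ 2 := by
      refine le_antisymm ?_ (Polynomial.le_natDegree_of_ne_zero ?_)
      · refine (Polynomial.natDegree_add_le _ _).trans (max_le ((Polynomial.natDegree_add_le _ _).trans
          (max_le ?_ ?_)) ?_) <;> simp <;> omega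
      · simp [Q, Polynomial.coeff_X, Polynomial.coeff_X_pow]
        split_ifs <;> simp_all <;> omega
    have hQ : Q = 0 := by
      refine Polynomial.eq_zero_of_natDegree_lt_card_of_eval_eq_zero Q (ι := K)
        (f := id) Function.injective_id (fun y => ?_) ?_
      · have := congrArg Subtype.val (hcon y)
        simpa [Q, trF_val] using this
      · rw [hdeg, hK]; exact Nat.pow_lt_pow_right (by omega) (by norm_num)
    rw [hQ, Polynomial.natDegree_zero] at hdeg
    omega
  intro c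
  refine ⟨x * ((trF hq hK x)⁻¹ * c : F0 hq hK), ?_⟩
  rw [trF_mul, ← mul_assoc, mul_inv_cancel₀ hx, one_mul]

theorem exists_shift {ψ : AddChar (F0 hq hK) ℂ} (hψ : ψ ≠ 1) (φ : AddChar (F0 hq hK) ℂ) :
    ∃ a, ∀ t, φ t = ψ (a * t) := by
  classical
  have hsur : Function.Surjective fun r : F0 hq hK => AddChar.mulShift ψ r :=
    ((Fintype.bijective_iff_injective_and_card _).2
      ⟨AddChar.to_mulShift_inj_of_isPrimitive (AddChar.IsPrimitive.of_ne_one hψ),
        (AddChar.card_eq).symm⟩).2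
  obtain ⟨a, ha⟩ := hsur φ
  exact ⟨a, fun t => (DFunLike.congr_fun ha t).symm⟩

theorem exists_ne {ψ : AddChar (F0 hq hK) ℂ} (hψ : ψ ≠ 1) {t : F0 hq hK} (ht : t ≠ 0) :
    ∃ u, ψ (t * u) ≠ 1 := by
  obtain ⟨w, hw⟩ := AddChar.ne_one_iff.1 hψ
  exact ⟨t⁻¹ * w, by rwa [← mul_assoc, mul_inv_cancel₀ ht, one_mul]⟩

theorem exists_trace_shift {ψ : AddChar (F0 hq hK) ℂ} (hψ : ψ ≠ 1) (φ : AddChar K ℂ) :
    ∃ β, ∀ x, φ x = ψ (trF hq hK (β * x)) := by
  classical
  have hne : ψ.compAddMonoidHom (trF hq hK) ≠ 1 := by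
    obtain ⟨w, hw⟩ := AddChar.ne_one_iff.1 hψ
    obtain ⟨x, hx⟩ := trF_surjective hq hK w
    exact AddChar.ne_one_iff.2 ⟨x, by rwa [AddChar.compAddMonoidHom_apply, hx]⟩
  have hsur : Function.Surjective fun r : K =>
      AddChar.mulShift (ψ.compAddMonoidHom (trF hq hK)) r :=
    ((Fintype.bijective_iff_injective_and_card _).2
      ⟨AddChar.to_mulShift_inj_of_isPrimitive (AddChar.IsPrimitive.of_ne_one hne),
        (AddChar.card_eq).symm⟩).2
  obtain ⟨β, hβ⟩ := hsur φ
  exact ⟨β, fun x => (DFunLike.congr_fun hβ x).symm⟩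

/-! ### Elements of the group -/

local notation "G1" => chevD4.genSubgroup K (d4Words K q)

/-- The root element of the highest root. -/
noncomputable def gz (t : F0 hq hK) : ↥G1 :=
  ⟨Sys.xG S K 23 (t : K), fix_pos_mem hq hK (Or.inr (Or.inr rfl)) (F0_pow hq hK t)⟩

/-- The root element of the root `p₂`. -/
noncomputable def gb (t : F0 hq hK) : ↥G1 :=
  ⟨Sys.xG S K 14 (t : K), fix_pos_mem hq hK (Or.inl rfl) (F0_pow hq hK t)⟩

/-- The partner of `gb`. -/
noncomputable def gc (t : F0 hq hK) : ↥G1 :=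
  ⟨Sys.xG S K 22 (t : K), fix_pos_mem hq hK (Or.inr (Or.inl rfl)) (F0_pow hq hK t)⟩

/-- The first triple. -/
noncomputable def g1 (A : K) : ↥G1 := ⟨U1 q A, U1_mem hq hK A⟩

/-- The second triple. -/
noncomputable def g2 (B : K) : ↥G1 := ⟨U2 q B, U2_mem hq hK B⟩

/-- The Levi root element. -/
noncomputable def gP (q : ℕ) (s : K) : ↥(chevD4.genSubgroup K (d4Words K q)) := ⟨P q s, P_mem s⟩

theorem gz_add (t u : F0 hq hK) : gz hq hK t * gz hq hK u = gz hq hK (t + u) :=
  Subtype.ext (Sys.xG_add S K 23 _ _)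

theorem gb_add (t u : F0 hq hK) : gb hq hK t * gb hq hK u = gb hq hK (t + u) :=
  Subtype.ext (Sys.xG_add S K 14 _ _)

theorem gc_add (t u : F0 hq hK) : gc hq hK t * gc hq hK u = gc hq hK (t + u) :=
  Subtype.ext (Sys.xG_add S K 22 _ _)

theorem g1_add (A B : K) : g1 hq hK A * g1 hq hK B = g1 hq hK (A + B) := by
  refine Subtype.ext ?_
  show U1 q A * U1 q B = U1 q (A + B)
  have c := fun r s hr hs h1 h2 h t u => comm_of (K := K) (r := r) (s := s) hr hs h1 h2 h t u
  simp only [U1, addq hq hK, addq2 hq hK, neg_add, ← Sys.xG_add]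
  exact regroup3
    (c 16 19 (by decide) (by decide) (by decide) (by decide +kernel) (by decide +kernel) _ _)
    (c 15 19 (by decide) (by decide) (by decide) (by decide +kernel) (by decide +kernel) _ _)
    (c 15 16 (by decide) (by decide) (by decide) (by decide +kernel) (by decide +kernel) _ _)

theorem g2_add (A B : K) : g2 hq hK A * g2 hq hK B = g2 hq hK (A + B) := by
  refine Subtype.ext ?_
  show U2 q A * U2 q B = U2 q (A + B)
  have c := fun r s hr hs h1 h2 h t u => comm_of (K := K) (r := r) (s := s) hr hs h1 h2 h t u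
  simp only [U2, addq hq hK, addq2 hq hK, neg_add, ← Sys.xG_add]
  exact regroup3
    (c 20 17 (by decide) (by decide) (by decide) (by decide +kernel) (by decide +kernel) _ _)
    (c 21 17 (by decide) (by decide) (by decide) (by decide +kernel) (by decide +kernel) _ _)
    (c 21 20 (by decide) (by decide) (by decide) (by decide +kernel) (by decide +kernel) _ _)

/-- The elements of the group that are positive unipotent. -/
noncomputable def posG (K : Type*) [Field K] (q : ℕ) : Subgroup ↥(chevD4.genSubgroup K (d4Words K q)) :=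
  (chevD4.posUnipotent K).subgroupOf _

theorem gz_central (t : F0 hq hK) {g : ↥G1} (hg : g ∈ posG K q) :
    gz hq hK t * g = g * gz hq hK t :=
  Subtype.ext (top_comm_pos (Subgroup.mem_subgroupOf.1 hg) _).symm

theorem gb_pos (t : F0 hq hK) : gb hq hK t ∈ posG K q :=
  Subgroup.mem_subgroupOf.2 (pos_of 14 (by norm_num) (by norm_num) _)

theorem gc_pos (t : F0 hq hK) : gc hq hK t ∈ posG K q :=
  Subgroup.mem_subgroupOf.2 (pos_of 22 (by norm_num) (by norm_num) _)

theorem gz_pos (t : F0 hq hK) : gz hq hK t ∈ posG K q :=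
  Subgroup.mem_subgroupOf.2 (pos_of 23 (by norm_num) (by norm_num) _)

theorem g1_pos (A : K) : g1 hq hK A ∈ posG K q := Subgroup.mem_subgroupOf.2 (U1_pos q A)

theorem g2_pos (B : K) : g2 hq hK B ∈ posG K q := Subgroup.mem_subgroupOf.2 (U2_pos q B)

theorem gP_pos (q : ℕ) (s : K) : gP q s ∈ posG K q := Subgroup.mem_subgroupOf.2 (P_pos q s)

theorem b_g1 (t : F0 hq hK) (A : K) : g1 hq hK A * gb hq hK t = gb hq hK t * g1 hq hK A := by
  refine Subtype.ext ?_
  show U1 q A * Sys.xG S K 14 (t : K) = Sys.xG S K 14 (t : K) * U1 q A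
  have c := fun r hr h1 h2 h u => comm_of (K := K) (r := 14) (s := r) (by decide) hr h1 h2 h (t : K) u
  rw [U1]
  exact Commute.mul_left (Commute.mul_left
    (c 19 (by decide) (by decide) (by decide +kernel) (by decide +kernel) _).symm
    (c 16 (by decide) (by decide) (by decide +kernel) (by decide +kernel) _).symm)
    (c 15 (by decide) (by decide) (by decide +kernel) (by decide +kernel) _).symm

theorem b_g2 (t : F0 hq hK) (B : K) : g2 hq hK B * gb hq hK t = gb hq hK t * g2 hq hK B := by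
  refine Subtype.ext ?_
  show U2 q B * Sys.xG S K 14 (t : K) = Sys.xG S K 14 (t : K) * U2 q B
  have c := fun r hr h1 h2 h u => comm_of (K := K) (r := 14) (s := r) (by decide) hr h1 h2 h (t : K) u
  rw [U2]
  exact Commute.mul_left (Commute.mul_left
    (c 17 (by decide) (by decide) (by decide +kernel) (by decide +kernel) _).symm
    (c 20 (by decide) (by decide) (by decide +kernel) (by decide +kernel) _).symm)
    (c 21 (by decide) (by decide) (by decide +kernel) (by decide +kernel) _).symm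

theorem c_g1 (t : F0 hq hK) (A : K) : g1 hq hK A * gc hq hK t = gc hq hK t * g1 hq hK A := by
  refine Subtype.ext ?_
  show U1 q A * Sys.xG S K 22 (t : K) = Sys.xG S K 22 (t : K) * U1 q A
  have c := fun r hr h1 h2 h u => comm_of (K := K) (r := 22) (s := r) (by decide) hr h1 h2 h (t : K) u
  rw [U1]
  exact Commute.mul_left (Commute.mul_left
    (c 19 (by decide) (by decide) (by decide +kernel) (by decide +kernel) _).symm
    (c 16 (by decide) (by decide) (by decide +kernel) (by decide +kernel) _).symm)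
    (c 15 (by decide) (by decide) (by decide +kernel) (by decide +kernel) _).symm

theorem c_g2 (t : F0 hq hK) (B : K) : g2 hq hK B * gc hq hK t = gc hq hK t * g2 hq hK B := by
  refine Subtype.ext ?_
  show U2 q B * Sys.xG S K 22 (t : K) = Sys.xG S K 22 (t : K) * U2 q B
  have c := fun r hr h1 h2 h u => comm_of (K := K) (r := 22) (s := r) (by decide) hr h1 h2 h (t : K) u
  rw [U2]
  exact Commute.mul_left (Commute.mul_left
    (c 17 (by decide) (by decide) (by decide +kernel) (by decide +kernel) _).symm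
    (c 20 (by decide) (by decide) (by decide +kernel) (by decide +kernel) _).symm)
    (c 21 (by decide) (by decide) (by decide +kernel) (by decide +kernel) _).symm

theorem c_b (t u : F0 hq hK) :
    gc hq hK u * gb hq hK t = gb hq hK t * gc hq hK u * gz hq hK (-(t * u)) := by
  refine Subtype.ext ?_
  have h := swap_of (K := K) (r := 14) (s := 22) (w := 23) (C := 1) (by decide) (by decide)
    (by decide) (by decide +kernel) (by decide +kernel) (t : K) (u : K)
  rw [Int.cast_one, one_mul] at h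
  exact h

theorem g2_g1 (A B : K) :
    g2 hq hK B * g1 hq hK A = g1 hq hK A * g2 hq hK B * gz hq hK (trF hq hK (A * B)) := by
  refine Subtype.ext ?_
  show U2 q B * U1 q A = U1 q A * U2 q B * Sys.xG S K 23 (trF hq hK (A * B) : K)
  have c := fun r s hr hs h1 h2 h t u => comm_of (K := K) (r := r) (s := s) hr hs h1 h2 h t u
  have w : ∀ r s, r < chevD4.nroots → s < chevD4.nroots → s ≠ r → s ≠ chevD4.neg r →
      chevD4.commTerms r s = [(23, -1, 1, 1)] → ∀ t u : K,
      Sys.xG S K s u * Sys.xG S K r t = Sys.xG S K r t * Sys.xG S K s u * Sys.xG S K 23 (t * u) := by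
    intro r s hr hs h1 h2 h t u
    have e := swap_of (K := K) (r := r) (s := s) (w := 23) (C := -1) hr hs h1 h2 h t u
    rwa [Int.cast_neg, Int.cast_one, neg_one_mul, neg_mul, neg_neg] at e
  have hz : ∀ r, 12 ≤ r → r < 24 → ∀ a u : K, Commute (Sys.xG S K 23 u) (Sys.xG S K r a) :=
    fun r h h' a u => (top_comm_pos (pos_of r h h' a) u).symm
  have s19 : U2 q B * Sys.xG S K 19 A = Sys.xG S K 19 A * U2 q B * Sys.xG S K 23 (A * B) :=
    swap_first (w 19 17 (by decide) (by decide) (by decide) (by decide +kernel) (by decide +kernel) _ _)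
      (c 19 20 (by decide) (by decide) (by decide) (by decide +kernel) (by decide +kernel) _ _).symm
      (c 19 21 (by decide) (by decide) (by decide) (by decide +kernel) (by decide +kernel) _ _).symm
      (hz 20 (by norm_num) (by norm_num) _ _) (hz 21 (by norm_num) (by norm_num) _ _)
  have s16 : U2 q B * Sys.xG S K 16 (-A ^ q) =
      Sys.xG S K 16 (-A ^ q) * U2 q B * Sys.xG S K 23 (A ^ q * B ^ q) := by
    rw [← neg_mul_neg (A ^ q)]
    exact swap_second
      (w 16 20 (by decide) (by decide) (by decide) (by decide +kernel) (by decide +kernel) _ _)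
      (c 16 17 (by decide) (by decide) (by decide) (by decide +kernel) (by decide +kernel) _ _).symm
      (c 16 21 (by decide) (by decide) (by decide) (by decide +kernel) (by decide +kernel) _ _).symm
      (hz 21 (by norm_num) (by norm_num) _ _)
  have s15 : U2 q B * Sys.xG S K 15 (-A ^ (q ^ 2)) =
      Sys.xG S K 15 (-A ^ (q ^ 2)) * U2 q B * Sys.xG S K 23 (A ^ (q ^ 2) * B ^ (q ^ 2)) := by
    rw [← neg_mul_neg (A ^ (q ^ 2))]
    exact swap_third
      (w 15 21 (by decide) (by decide) (by decide) (by decide +kernel) (by decide +kernel) _ _)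
      (c 15 17 (by decide) (by decide) (by decide) (by decide +kernel) (by decide +kernel) _ _).symm
      (c 15 20 (by decide) (by decide) (by decide) (by decide +kernel) (by decide +kernel) _ _).symm
  rw [U1, swap_prod3 s19 s16 s15 (hz 16 (by norm_num) (by norm_num) _ _)
    (hz 15 (by norm_num) (by norm_num) _ _) (hz 15 (by norm_num) (by norm_num) _ _)]
  rw [trF_val, mul_pow, mul_pow, Sys.xG_add, Sys.xG_add]
  congr 2
  abel

/-- The product of the radical coordinates. -/
noncomputable def coord : F0 hq hK × K × K × F0 hq hK → ↥(posG K q) := fun x =>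
  ⟨gb hq hK x.1 * g1 hq hK x.2.1 * (g2 hq hK x.2.2.1 * gc hq hK x.2.2.2),
    mul_mem (mul_mem (gb_pos hq hK _) (g1_pos hq hK _)) (mul_mem (g2_pos hq hK _) (gc_pos hq hK _))⟩

theorem coord_add (x y : F0 hq hK × K × K × F0 hq hK) : ∃ v,
    (coord hq hK x : ↥G1) * coord hq hK y = coord hq hK (x + y) * gz hq hK v := by
  obtain ⟨t, A, B, u⟩ := x
  obtain ⟨t', A', B', u'⟩ := y
  refine ⟨-(t' * u) + trF hq hK (A' * B), ?_⟩
  show gb hq hK t * g1 hq hK A * (g2 hq hK B * gc hq hK u) *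
      (gb hq hK t' * g1 hq hK A' * (g2 hq hK B' * gc hq hK u')) =
    gb hq hK (t + t') * g1 hq hK (A + A') * (g2 hq hK (B + B') * gc hq hK (u + u')) * _
  rw [← gb_add, ← g1_add, ← g2_add, ← gc_add, ← gz_add]
  set z1 := gz hq hK (-(t' * u))
  set z2 := gz hq hK (trF hq hK (A' * B))
  have hz1 : ∀ g ∈ posG K q, z1 * g = g * z1 := fun g hg => gz_central hq hK _ hg
  have hz2 : ∀ g ∈ posG K q, z2 * g = g * z2 := fun g hg => gz_central hq hK _ hg
  calc gb hq hK t * g1 hq hK A * (g2 hq hK B * gc hq hK u) *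
        (gb hq hK t' * g1 hq hK A' * (g2 hq hK B' * gc hq hK u'))
      = gb hq hK t * g1 hq hK A * g2 hq hK B * (gc hq hK u * gb hq hK t') *
        (g1 hq hK A' * g2 hq hK B' * gc hq hK u') := by simp only [mul_assoc]
    _ = gb hq hK t * g1 hq hK A * g2 hq hK B * gb hq hK t' * gc hq hK u *
        (g1 hq hK A' * g2 hq hK B' * gc hq hK u') * z1 := by
        rw [c_b]
        simp only [mul_assoc]
        rw [hz1 _ (mul_mem (g1_pos hq hK _) (mul_mem (g2_pos hq hK _) (gc_pos hq hK _)))]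
        simp only [mul_assoc]
    _ = gb hq hK t * g1 hq hK A * (g2 hq hK B * gb hq hK t') * (gc hq hK u * g1 hq hK A') *
        (g2 hq hK B' * gc hq hK u') * z1 := by simp only [mul_assoc]
    _ = gb hq hK t * (g1 hq hK A * gb hq hK t') * (g2 hq hK B * g1 hq hK A') *
        (gc hq hK u * g2 hq hK B' * gc hq hK u') * z1 := by
        rw [b_g2, ← c_g1]; simp only [mul_assoc]
    _ = gb hq hK t * gb hq hK t' * g1 hq hK A * (g1 hq hK A' * g2 hq hK B * z2) *
        (g2 hq hK B' * gc hq hK u * gc hq hK u') * z1 := by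
        rw [b_g1, g2_g1, ← c_g2]; simp only [mul_assoc]; rfl
    _ = gb hq hK t * gb hq hK t' * g1 hq hK A * (g1 hq hK A' * g2 hq hK B) *
        (g2 hq hK B' * gc hq hK u * gc hq hK u') * (z2 * z1) := by
        simp only [mul_assoc]
        rw [← mul_assoc z2 (g2 hq hK B'), hz2 _ (g2_pos hq hK _), mul_assoc,
          ← mul_assoc z2 (gc hq hK u), hz2 _ (gc_pos hq hK _), mul_assoc,
          ← mul_assoc z2 (gc hq hK u'), hz2 _ (gc_pos hq hK _), mul_assoc]
    _ = _ := by
        rw [hz2 z1 (gz_pos hq hK _)]; simp only [mul_assoc]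

/-- The coordinates of a conjugate of a root element. -/
noncomputable def line : Option K → F0 hq hK → F0 hq hK × K × K × F0 hq hK
  | none, t => (0, 0, 0, t)
  | some s, t => (t, -(s * t), s ^ q * s ^ (q ^ 2) * t,
      ⟨-(s * s ^ q * s ^ (q ^ 2) * t), F0_mk hq hK (by
        rw [negq hq hK, neg_inj, mul_pow, mul_pow, mul_pow, pq2 hq hK, pq3 hq hK, F0_pow]; ring)⟩)

theorem gP_conj (s : K) (t : F0 hq hK) : ∃ v,
    gP q s * gb hq hK t * (gP q s)⁻¹ = coord hq hK (line hq hK (some s) t) * gz hq hK v := by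
  obtain ⟨v, hv, h⟩ := conj_P_root hq hK s (F0_pow hq hK t)
  exact ⟨⟨v, F0_mk hq hK hv⟩, Subtype.ext h⟩

theorem gz_conj_gc (c : F0 hq hK) : ∃ (n : ↥G1) (d : F0 hq hK), (d = c ∨ d = -c) ∧
    n * gz hq hK c * n⁻¹ = gc hq hK d := by
  classical
  obtain ⟨u, hu, h⟩ := nL_conj_xG S K (L := [1]) (by decide +kernel)
    (show 23 < chevD4.nroots by decide) (c : K)
  rw [show wL chevD4 [1] 23 = 22 by decide +kernel] at h
  refine ⟨⟨_, n2_mem hq hK⟩, if u = c then c else -c, by split_ifs <;> simp, Subtype.ext ?_⟩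
  show nL S K [1] * Sys.xG S K 23 (c : K) * (nL S K [1])⁻¹ = Sys.xG S K 22 _
  rw [h, mul_inv_cancel_right]
  split_ifs with hc
  · rw [hc]
  · rw [hu.resolve_left hc]; rfl

theorem gz_conj_gb (c : F0 hq hK) : ∃ (n : ↥G1) (d : F0 hq hK), (d = c ∨ d = -c) ∧
    n * gz hq hK c * n⁻¹ = gb hq hK d := by
  classical
  obtain ⟨u, hu, h⟩ := nL_conj_xG S K (L := [0, 2, 3, 1]) (by decide +kernel)
    (show 23 < chevD4.nroots by decide) (c : K)
  rw [show wL chevD4 [0, 2, 3, 1] 23 = 14 by decide +kernel] at h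
  have hL : nL S K [0, 2, 3, 1] ∈ G1 := by
    rw [show ([0, 2, 3, 1] : List ℕ) = [0, 2, 3] ++ [1] from rfl, nL_append]
    exact mul_mem (nJ_mem hq hK) (n2_mem hq hK)
  refine ⟨⟨_, hL⟩, if u = c then c else -c, by split_ifs <;> simp, Subtype.ext ?_⟩
  show nL S K [0, 2, 3, 1] * Sys.xG S K 23 (c : K) * (nL S K [0, 2, 3, 1])⁻¹ = Sys.xG S K 14 _
  rw [h, mul_inv_cancel_right]
  split_ifs with hc
  · rw [hc]
  · rw [hu.resolve_left hc]; rfl

theorem gz_neg (t : F0 hq hK) : gz hq hK (-t) = (gz hq hK t)⁻¹ := by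
  refine eq_inv_of_mul_eq_one_left ?_
  rw [gz_add, neg_add_cancel]
  exact Subtype.ext (Sys.xG_zero S K 23)

/-- Turn a conjugate of a root element of the highest root into a conjugate with a given parameter. -/
theorem exists_conj_param {X : F0 hq hK → ↥G1} (hX : ∀ a b, X a * X b = X (a + b))
    (h : ∀ c, ∃ (n : ↥G1) (d : F0 hq hK), (d = c ∨ d = -c) ∧ n * gz hq hK c * n⁻¹ = X d)
    {t : F0 hq hK} (ht : t ≠ 0) : ∃ c, c ≠ 0 ∧ ∃ n, n * gz hq hK c * n⁻¹ = X t := by
  obtain ⟨n, d, hd, hn⟩ := h t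
  rcases hd with rfl | rfl
  · exact ⟨_, ht, n, hn⟩
  · refine ⟨-t, neg_ne_zero.2 ht, n, ?_⟩
    have h0 : X 0 = 1 := by
      have e := hX 0 0
      rwa [add_zero, mul_eq_left] at e
    have e1 : X t = (X (-t))⁻¹ := eq_inv_of_mul_eq_one_left (by rw [hX, add_neg_cancel, h0])
    rw [e1, ← hn, gz_neg]
    group

theorem line_add (o : Option K) (t u : F0 hq hK) :
    line hq hK o (t + u) = line hq hK o t + line hq hK o u := by
  rcases o with _ | s
  · simp [line]
  · refine Prod.ext rfl (Prod.ext ?_ (Prod.ext ?_ (Subtype.ext ?_))) <;> simp [line] <;> ring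

theorem torus_gz {r : F0 hq hK} (hr : r ≠ 0) : ∃ T : ↥G1, ∀ c,
    T * gz hq hK c = gz hq hK (r * c) * T := by
  set a : Kˣ := Units.mk0 (r : K) (fun h => hr (Subtype.ext h))
  refine ⟨⟨_, torP_mem hq hK a (F0_pow hq hK r)⟩, fun c => Subtype.ext ?_⟩
  show tor chevD4 K (Pi.mulSingle 1 a) * Sys.xG S K 23 (c : K) =
    Sys.xG S K 23 ((r : K) * c) * tor chevD4 K (Pi.mulSingle 1 a)
  rw [← mul_inv_eq_iff_eq_mul, Sys.tor_conj S K _ (show 23 < chevD4.nroots by decide),
    torusVal_single K a (show 1 < chevD4.rank by decide),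
    show chevD4.cartan 1 23 = 1 by decide +kernel, zpow_one]
  rfl

/-- Every character of the radical coordinates kills one of the lines. -/
theorem exists_line (lam : AddChar (F0 hq hK × K × K × F0 hq hK) ℂ) :
    ∃ o : Option K, ∀ t, lam (line hq hK o t) = 1 := by
  classical
  obtain ⟨ψ, hψ⟩ : ∃ ψ : AddChar (F0 hq hK) ℂ, ψ ≠ 1 := by
    obtain ⟨ψ, hψ⟩ := AddChar.exists_apply_ne_zero.2 (one_ne_zero (α := F0 hq hK))
    exact ⟨ψ, AddChar.ne_one_iff.2 ⟨1, hψ⟩⟩
  let M := F0 hq hK × K × K × F0 hq hK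
  let i1 : F0 hq hK →+ M := AddMonoidHom.inl _ _
  let i2 : K →+ M := (AddMonoidHom.inr _ _).comp (AddMonoidHom.inl _ _)
  let i3 : K →+ M := (AddMonoidHom.inr _ _).comp ((AddMonoidHom.inr _ _).comp (AddMonoidHom.inl _ _))
  let i4 : F0 hq hK →+ M :=
    (AddMonoidHom.inr _ _).comp ((AddMonoidHom.inr _ _).comp (AddMonoidHom.inr _ _))
  obtain ⟨a, ha⟩ := exists_shift hq hK hψ (lam.compAddMonoidHom i1)
  obtain ⟨β, hβ⟩ := exists_trace_shift hq hK hψ (lam.compAddMonoidHom i2)
  obtain ⟨γ, hγ⟩ := exists_trace_shift hq hK hψ (lam.compAddMonoidHom i3)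
  obtain ⟨d, hd⟩ := exists_shift hq hK hψ (lam.compAddMonoidHom i4)
  have hlam : ∀ x y z w, lam (x, y, z, w) =
      ψ (a * x + trF hq hK (β * y) + trF hq hK (γ * z) + d * w) := by
    intro x y z w
    rw [show ((x, y, z, w) : M) = i1 x + i2 y + i3 z + i4 w by
        refine Prod.ext ?_ (Prod.ext ?_ (Prod.ext ?_ ?_))
        · show x = x + 0 + 0 + 0; abel
        · show y = 0 + y + 0 + 0; abel
        · show z = 0 + 0 + z + 0; abel
        · show w = 0 + 0 + 0 + w; abel,
      AddChar.map_add_eq_mul, AddChar.map_add_eq_mul, AddChar.map_add_eq_mul]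
    simp only [← AddChar.compAddMonoidHom_apply]
    rw [ha, hβ, hγ, hd, ← AddChar.map_add_eq_mul, ← AddChar.map_add_eq_mul, ← AddChar.map_add_eq_mul]
  by_cases hd0 : d = 0
  · refine ⟨none, fun t => ?_⟩
    show lam ((0 : F0 hq hK), (0 : K), (0 : K), t) = 1
    rw [hlam, hd0]
    simp
  -- otherwise a norm form of degree `q² + q + 1` has a zero
  let L : Polynomial K := Polynomial.C (a : K) -
    (Polynomial.C β * Polynomial.X + Polynomial.C (β ^ q) * Polynomial.X ^ q +
      Polynomial.C (β ^ (q ^ 2)) * Polynomial.X ^ (q ^ 2)) +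
    (Polynomial.C γ * Polynomial.X ^ (q + q ^ 2) + Polynomial.C (γ ^ q) * Polynomial.X ^ (q ^ 2 + 1) +
      Polynomial.C (γ ^ (q ^ 2)) * Polynomial.X ^ (1 + q))
  let Q : Polynomial K := L - Polynomial.C (d : K) * Polynomial.X ^ (1 + q + q ^ 2)
  have h2 := hq.two_le
  have hlt : q < q ^ 2 := lt_self_pow₀ (by omega) (by norm_num)
  have hL : L.natDegree < 1 + q + q ^ 2 := by
    refine lt_of_le_of_lt (b := q + q ^ 2) ?_ (by omega)
    have hm : ∀ (c : K) (n : ℕ), n ≤ q + q ^ 2 →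
        (Polynomial.C c * Polynomial.X ^ n).natDegree ≤ q + q ^ 2 := fun c n hn =>
      (Polynomial.natDegree_C_mul_X_pow_le c n).trans hn
    refine (Polynomial.natDegree_add_le _ _).trans (max_le ((Polynomial.natDegree_sub_le _ _).trans
      (max_le (by simp) ?_)) ?_)
    · refine (Polynomial.natDegree_add_le _ _).trans (max_le ((Polynomial.natDegree_add_le _ _).trans
        (max_le ?_ (hm _ _ (by omega)))) (hm _ _ (by omega)))
      simpa using hm β 1 (by omega)
    · exact (Polynomial.natDegree_add_le _ _).trans (max_le ((Polynomial.natDegree_add_le _ _).trans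
        (max_le (hm _ _ (by omega)) (hm _ _ (by omega)))) (hm _ _ (by omega)))
  have hdK : (d : K) ≠ 0 := fun h => hd0 (Subtype.ext h)
  have hQdeg : Q.natDegree = 1 + q + q ^ 2 := by
    have h := Polynomial.natDegree_C_mul_X_pow (1 + q + q ^ 2) (d : K) hdK
    show (L - _).natDegree = _
    rw [Polynomial.natDegree_sub_eq_right_of_natDegree_lt (by omega), h]
  have heval : ∀ s : K, Q.eval s = a - trF hq hK (β * s) + trF hq hK (γ * (s ^ q * s ^ (q ^ 2))) -
      d * (s * s ^ q * s ^ (q ^ 2)) := by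
    intro s
    simp only [Q, L, trF_val, mul_pow, pq2 hq hK, pq3 hq hK, Polynomial.eval_sub,
      Polynomial.eval_add, Polynomial.eval_mul, Polynomial.eval_C, Polynomial.eval_X,
      Polynomial.eval_pow, pow_add, pow_one]
    have e : (s ^ (q ^ 2)) ^ (q ^ 2) = s ^ q := by
      rw [← pq2 hq hK (s ^ (q ^ 2)), pq3 hq hK]
    have e' : (s ^ q) ^ (q ^ 2) = s := by rw [← pq2 hq hK (s ^ q), pow_q3 hq hK]
    rw [e, e']
  obtain ⟨s, hs⟩ : ∃ s : K, Q.eval s = 0 := by
    by_contra hcon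
    push Not at hcon
    have hunit : ∀ s, (Q.eval s) ^ (q - 1) = 1 := by
      intro s
      have hfix : (Q.eval s) ^ q = Q.eval s := by
        rw [heval]
        exact F0_pow hq hK (a - trF hq hK (β * s) + trF hq hK (γ * (s ^ q * s ^ (q ^ 2))) -
          d * ⟨s * s ^ q * s ^ (q ^ 2), F0_mk hq hK (by
            rw [mul_pow, mul_pow, pq2 hq hK, pq3 hq hK]; ring)⟩)
      rw [← Nat.sub_add_cancel (show 1 ≤ q by omega), pow_succ] at hfix
      exact (mul_eq_right₀ (hcon s)).1 hfix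
    have hz : Q ^ (q - 1) - 1 = 0 := by
      refine Polynomial.eq_zero_of_natDegree_lt_card_of_eval_eq_zero _ (ι := K)
        (f := id) Function.injective_id (fun s => by simp [hunit s]) ?_
      rw [show (1 : Polynomial K) = Polynomial.C 1 from (map_one _).symm, Polynomial.natDegree_sub_C,
        Polynomial.natDegree_pow, hQdeg, hK]
      obtain ⟨j, rfl⟩ := Nat.exists_eq_add_of_le (show 1 ≤ q by omega)
      rw [Nat.add_sub_cancel_left]
      nlinarith
    have := congrArg Polynomial.natDegree (sub_eq_zero.1 hz)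
    rw [Polynomial.natDegree_pow, hQdeg, Polynomial.natDegree_one, mul_eq_zero] at this
    omega
  refine ⟨some s, fun t => ?_⟩
  show lam (t, -(s * (t : K)), s ^ q * s ^ (q ^ 2) * (t : K), _) = 1
  rw [hlam, mul_neg, map_neg, ← mul_assoc β, trF_mul, ← mul_assoc γ, trF_mul]
  have hval : a + -trF hq hK (β * s) + trF hq hK (γ * (s ^ q * s ^ (q ^ 2))) +
      d * ⟨-(s * s ^ q * s ^ (q ^ 2)), F0_mk hq hK (by
        rw [negq hq hK, neg_inj, mul_pow, mul_pow, pq2 hq hK, pq3 hq hK]; ring)⟩ = 0 := by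
    refine Subtype.ext (Eq.trans ?_ hs)
    rw [heval]
    push_cast
    ring
  rw [show ∀ w : F0 hq hK, (w : K) = -(s * s ^ q * s ^ (q ^ 2) * t) →
    a * t + -(trF hq hK (β * s) * t) + trF hq hK (γ * (s ^ q * s ^ (q ^ 2))) * t + d * w = 0 from
      fun w hw => by
        have hw' : w = ⟨-(s * s ^ q * s ^ (q ^ 2)), F0_mk hq hK (by
          rw [negq hq hK, neg_inj, mul_pow, mul_pow, pq2 hq hK, pq3 hq hK]; ring)⟩ * t :=
          Subtype.ext (hw.trans (by push_cast; ring))
        rw [hw', ← mul_assoc d, ← neg_mul, ← add_mul, ← add_mul, ← add_mul, hval, zero_mul]]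
  · exact AddChar.map_zero_eq_one ψ
  · rfl

end

theorem no_dvd {q : ℕ} (h2 : 2 ≤ q) :
    ¬ (q ^ 4 + q ^ 3 + 1) ∣ q ^ 12 * (q ^ 2 - 1) * (q ^ 6 - 1) * (q ^ 8 + q ^ 4 + 1) := by
  intro h
  obtain ⟨j, rfl⟩ : ∃ j, q = j + 1 := ⟨q - 1, by omega⟩
  obtain ⟨f, hf⟩ : ∃ f, f = (j + 1) ^ 4 + (j + 1) ^ 3 + 1 := ⟨_, rfl⟩
  rw [← hf] at h
  obtain ⟨e, he⟩ : ∃ e : ℕ, (e : ℤ) = ((j : ℤ) + 1) ^ 2 - (j + 1) + 1 :=
    ⟨j ^ 2 + j + 1, by push_cast; ring⟩
  obtain ⟨k, hk⟩ : ∃ k : ℕ, (k : ℤ) = ((j : ℤ) + 1) ^ 4 - (j + 1) ^ 2 + 1 :=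
    ⟨j ^ 4 + 4 * j ^ 3 + 5 * j ^ 2 + 2 * j + 1, by push_cast; ring⟩
  obtain ⟨c, hc⟩ : ∃ c, c = (j + 1) ^ 2 + (j + 1) + 1 := ⟨_, rfl⟩
  have hprod : (j + 1) ^ 12 * ((j + 1) ^ 2 - 1) * ((j + 1) ^ 6 - 1) *
      ((j + 1) ^ 8 + (j + 1) ^ 4 + 1) = (j + 1) ^ 12 * (j + 2) ^ 2 * e ^ 2 * k * (j ^ 2 * c ^ 2) := by
    have h1 : 1 ≤ (j + 1) ^ 2 := Nat.one_le_pow _ _ (by omega)
    have h6 : 1 ≤ (j + 1) ^ 6 := Nat.one_le_pow _ _ (by omega)
    zify [h1, h6]
    rw [he, hk, hc]
    push_cast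
    ring
  rw [hprod] at h
  have cop : ∀ {x y : ℕ}, IsCoprime (x : ℤ) (y : ℤ) → Nat.Coprime x y := fun h =>
    Int.isCoprime_iff_gcd_eq_one.1 h
  have hfz : (f : ℤ) = ((j : ℤ) + 1) ^ 4 + (j + 1) ^ 3 + 1 := by rw [hf]; push_cast; ring
  have c1 : Nat.Coprime f (j + 1) :=
    cop ⟨1, -(((j : ℤ) + 1) ^ 3 + (j + 1) ^ 2), by rw [hfz]; push_cast; ring⟩
  have c2 : Nat.Coprime f (j + 2) :=
    cop ⟨1, -(((j : ℤ) + 1) ^ 3), by rw [hfz]; push_cast; ring⟩
  have c3 : Nat.Coprime f e :=
    cop ⟨(j : ℤ), 1 - (j : ℤ) * ((j : ℤ) + 2) ^ 2, by rw [hfz, he]; ring⟩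
  have c4 : Nat.Coprime f k := by
    have h1 : IsCoprime (k : ℤ) ((j : ℤ) + 1) := ⟨1, -(((j : ℤ) + 1) ^ 3 - (j + 1)), by rw [hk]; ring⟩
    have h2' : IsCoprime (k : ℤ) ((j : ℤ) + 2) :=
      ⟨1, -(((j : ℤ) + 1) ^ 3 - (j + 1) ^ 2), by rw [hk]; ring⟩
    have h3 := ((h1.mul_right h1).mul_right h2').add_mul_left_right 1
    rw [show ((j : ℤ) + 1) * ((j : ℤ) + 1) * ((j : ℤ) + 2) + (k : ℤ) * 1 = (f : ℤ) by
      rw [hfz, hk]; ring] at h3
    exact (cop h3).symm
  have hf81 : f ∣ 81 := by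
    have h' := (Nat.Coprime.mul_right (Nat.Coprime.mul_right (Nat.Coprime.mul_right
      (c1.pow_right 12) (c2.pow_right 2)) (c3.pow_right 2)) c4).dvd_of_dvd_mul_left h
    have ha : Nat.gcd f j ∣ 3 := by
      have h1 : ((Nat.gcd f j : ℕ) : ℤ) ∣ (f : ℤ) := Int.natCast_dvd_natCast.2 (Nat.gcd_dvd_left f j)
      have h2 : ((Nat.gcd f j : ℕ) : ℤ) ∣ (j : ℤ) := Int.natCast_dvd_natCast.2 (Nat.gcd_dvd_right f j)
      have := dvd_sub h1 (h2.mul_right (((j : ℤ) + 1) ^ 3 + 2 * (j + 1) ^ 2 + 2 * (j + 1) + 2))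
      rw [show (f : ℤ) - (j : ℤ) * (((j : ℤ) + 1) ^ 3 + 2 * (j + 1) ^ 2 + 2 * (j + 1) + 2) = ((3 : ℕ) : ℤ)
        by rw [hfz]; push_cast; ring] at this
      exact Int.natCast_dvd_natCast.1 this
    have hc3 : Nat.gcd f c ∣ 3 := by
      have h1 : ((Nat.gcd f c : ℕ) : ℤ) ∣ (f : ℤ) := Int.natCast_dvd_natCast.2 (Nat.gcd_dvd_left f c)
      have h2 : ((Nat.gcd f c : ℕ) : ℤ) ∣ (c : ℤ) := Int.natCast_dvd_natCast.2 (Nat.gcd_dvd_right f c)
      have hc2 := dvd_sub h1 (h2.mul_right (((j : ℤ) + 1) ^ 2 - 1))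
      have := dvd_sub h2 (hc2.mul_right (((j : ℤ) + 1) - 1))
      rw [show (c : ℤ) - ((f : ℤ) - (c : ℤ) * (((j : ℤ) + 1) ^ 2 - 1)) * (((j : ℤ) + 1) - 1) =
        ((3 : ℕ) : ℤ) by rw [hfz, hc]; push_cast; ring] at this
      exact Int.natCast_dvd_natCast.1 this
    have hpow : ∀ x, Nat.gcd f x ∣ 3 → Nat.gcd f (x ^ 2) ∣ 3 ^ 2 := fun x hx => by
      rw [sq x, sq 3]
      exact (Nat.gcd_mul_right_dvd_mul_gcd f x x).trans (mul_dvd_mul hx hx)
    have := (Nat.dvd_gcd dvd_rfl h').trans (Nat.gcd_mul_right_dvd_mul_gcd f (j ^ 2) (c ^ 2))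
    exact this.trans (mul_dvd_mul (hpow j ha) (hpow c hc3))
  rcases Nat.lt_or_ge (j + 1) 3 with h3 | h3
  · have : j = 1 := by omega
    subst this
    norm_num at hf
    subst hf
    norm_num at hf81
  · have h4 : 3 ^ 4 ≤ (j + 1) ^ 4 := Nat.pow_le_pow_left h3 4
    have := Nat.le_of_dvd (by norm_num) hf81
    omega

section Final

variable {K : Type*} [Field K] [Fintype K] {q : ℕ} (hq : IsPrimePow q)
  (hK : Fintype.card K = q ^ 3)

local notation "G1" => chevD4.genSubgroup K (d4Words K q)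

include hq hK

theorem min_degree {V : Type*} [AddCommGroup V] [Module ℂ V] [FiniteDimensional ℂ V]
    (ρ : Representation ℂ ↥G1 V) (hirr : ρ.IsIrreducible) (hk : 2 ≤ Module.finrank ℂ V) :
    q * (q ^ 4 - q ^ 2 + 1) ≤ Module.finrank ℂ V := by
  classical
  have : IsSimpleGroup ↥G1 := (simpleGroup hq hK).1
  have hfaith : ∀ g, ρ g = 1 → g = 1 := by
    intro g hg
    by_contra hne
    have hker : ρ.ker = ⊤ := (MonoidHom.normal_ker ρ).eq_bot_or_eq_top.resolve_left fun h => by
      have : g ∈ ρ.ker := hg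
      rw [h] at this
      exact hne (Subgroup.mem_bot.1 this)
    have hall : ∀ h, ρ h = 1 := fun h => MonoidHom.mem_ker.1 (hker ▸ Subgroup.mem_top h)
    have : Nontrivial V := Module.nontrivial_of_finrank_pos (R := ℂ) (by omega)
    obtain ⟨v, hv⟩ := _root_.exists_ne (0 : V)
    let σ : Subrepresentation ρ := ⟨Submodule.span ℂ {v}, fun h w hw => by rw [hall h]; exact hw⟩
    rcases hirr.eq_bot_or_eq_top σ with h | h
    · have h' := congrArg Subrepresentation.toSubmodule h
      exact hv (Submodule.span_singleton_eq_bot.1 h')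
    · have h' : Submodule.span ℂ {v} = (⊤ : Submodule ℂ V) := congrArg Subrepresentation.toSubmodule h
      have h1 : Module.finrank ℂ (Submodule.span ℂ ({v} : Set V)) = 1 := finrank_span_singleton hv
      rw [h', finrank_top] at h1
      omega
  let F := F0 hq hK
  have hcardF : Fintype.card F = q := by rw [← Nat.card_eq_fintype_card]; exact card_F0 hq hK
  have z0 : gz hq hK 0 = 1 := Subtype.ext (Sys.xG_zero S K 23)
  let actZ : AddChar F (Module.End ℂ V) :=
    { toFun := fun t => ρ (gz hq hK t)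
      map_zero_eq_one' := by rw [z0, map_one]
      map_add_eq_mul' := fun a b => by rw [← map_mul, gz_add] }
  have hZc : ∀ g ∈ posG K q, ∀ b, ρ g * actZ b = actZ b * ρ g := fun g hg b => by
    show ρ g * ρ (gz hq hK b) = ρ (gz hq hK b) * ρ g
    rw [← map_mul, ← map_mul, gz_central hq hK b hg]
  obtain ⟨ψ, hψ, hW⟩ := exists_wt actZ (c := 1) fun h => by
    have h2 := congrArg Subtype.val (hfaith _ h)
    exact one_ne_zero ((Sys.xG_eq_one_iff S K (show 23 < chevD4.nroots by decide) (1 : K)).mp h2)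
  set D := Module.finrank ℂ (wt actZ ψ) with hD
  -- the torus permutes the non-trivial weights
  have hshift : ∀ (φ : AddChar F ℂ) (r : F), r ≠ 0 →
      Module.finrank ℂ (wt actZ φ) ≤ Module.finrank ℂ (wt actZ (AddChar.mulShift φ r)) := by
    intro φ r hr
    obtain ⟨T, hT⟩ := torus_gz hq hK (inv_ne_zero hr)
    have hmap : ∀ v ∈ wt actZ φ, ρ T v ∈ wt actZ (AddChar.mulShift φ r) := by
      intro v hv b
      have h := hT (r * b)
      rw [inv_mul_cancel_left₀ hr] at h
      show ρ (gz hq hK b) (ρ T v) = _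
      rw [← Module.End.mul_apply, ← map_mul, ← h, map_mul, Module.End.mul_apply]
      show ρ T (actZ (r * b) v) = _
      rw [hv, map_smul]
      rfl
    refine LinearMap.finrank_le_finrank_of_injective (f := (ρ T).restrict hmap) fun v w h => ?_
    refine Subtype.ext ?_
    have h' := congrArg (fun x => ρ T⁻¹ ((x : wt actZ (AddChar.mulShift φ r)) : V)) h
    simpa using h'
  have hall : ∀ φ : AddChar F ℂ, φ ≠ 1 → Module.finrank ℂ (wt actZ φ) = D := by
    intro φ hφ
    obtain ⟨a, ha⟩ := exists_shift hq hK hψ φ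
    have ha0 : a ≠ 0 := by
      rintro rfl
      exact hφ (DFunLike.ext _ _ fun t => by rw [ha, zero_mul, AddChar.map_zero_eq_one, AddChar.one_apply])
    have e1 : φ = AddChar.mulShift ψ a := DFunLike.ext _ _ fun t => by rw [ha, AddChar.mulShift_apply]
    have e2 : ψ = AddChar.mulShift φ a⁻¹ := DFunLike.ext _ _ fun t => by
      rw [AddChar.mulShift_apply, ha, mul_inv_cancel_left₀ ha0]
    refine le_antisymm ?_ (e1 ▸ hshift ψ a ha0)
    exact (hshift φ _ (inv_ne_zero ha0)).trans_eq (by rw [hD, ← e2])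
  -- the big weights
  have hDq : q ^ 4 ≤ D := by
    have hb0 : gb hq hK 0 = 1 := Subtype.ext (Sys.xG_zero S K 14)
    let B : AddChar (F × K) (Module.End ℂ V) :=
      { toFun := fun u => ρ (gc hq hK u.1 * g2 hq hK u.2)
        map_zero_eq_one' := by
          have h1 : gc hq hK (0 : F) = 1 := Subtype.ext (Sys.xG_zero S K 22)
          have h2 := g2_add hq hK 0 0
          rw [add_zero, mul_eq_left] at h2
          rw [Prod.fst_zero, Prod.snd_zero, h1, h2, one_mul, map_one]
        map_add_eq_mul' := fun x y => by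
          rw [← map_mul, Prod.fst_add, Prod.snd_add, ← gc_add, ← g2_add]
          congr 1
          rw [mul_assoc (gc hq hK x.1) (g2 hq hK x.2), ← mul_assoc (g2 hq hK x.2), c_g2]
          simp only [mul_assoc] }
    have h := card_le_finrank_wt actZ (fun i : F × K => ρ (gb hq hK i.1 * g1 hq hK i.2)) B
      (fun i u => trF hq hK (i.2 * u.2) - i.1 * u.1) (ψ := ψ) ?_ ?_ ?_ ?_ ?_ ?_ hW
    · rw [Fintype.card_prod, hcardF, hK, ← pow_succ'] at h
      exact h
    · intro i u u'
      rw [Prod.fst_add, Prod.snd_add, mul_add, map_add, mul_add]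
      abel
    · intro i i' h
      have h' : ∀ u : F × K, ψ (trF hq hK ((i.2 - i'.2) * u.2) - (i.1 - i'.1) * u.1) = 1 := by
        intro u
        have e : trF hq hK ((i.2 - i'.2) * u.2) - (i.1 - i'.1) * u.1 =
            (trF hq hK (i.2 * u.2) - i.1 * u.1) - (trF hq hK (i'.2 * u.2) - i'.1 * u.1) := by
          rw [sub_mul, map_sub, sub_mul]; abel
        rw [e, sub_eq_add_neg, AddChar.map_add_eq_mul, h u, ← AddChar.map_add_eq_mul, add_neg_cancel,
          AddChar.map_zero_eq_one]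
      have e1 : i.1 - i'.1 = 0 := by
        by_contra hne
        obtain ⟨w, hw⟩ := exists_ne hq hK hψ (neg_ne_zero.2 hne)
        refine hw ?_
        have := h' (w, 0)
        rwa [mul_zero, map_zero, zero_sub, ← neg_mul] at this
      have e2 : i.2 - i'.2 = 0 := by
        by_contra hne
        obtain ⟨w, hw⟩ := AddChar.ne_one_iff.1 hψ
        obtain ⟨x, hx⟩ := trF_surjective hq hK w
        refine hw ?_
        have := h' (0, (i.2 - i'.2)⁻¹ * x)
        rwa [mul_inv_cancel_left₀ hne, hx, mul_zero, sub_zero] at this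
      exact Prod.ext (sub_eq_zero.1 e1) (sub_eq_zero.1 e2)
    · intro i v hv
      have := congrArg (ρ (gb hq hK i.1 * g1 hq hK i.2)⁻¹) hv
      rwa [Representation.inv_self_apply, map_zero] at this
    · intro i c
      exact (hZc _ (mul_mem (gb_pos hq hK _) (g1_pos hq hK _)) c).symm
    · intro u c
      exact (hZc _ (mul_mem (gc_pos hq hK _) (g2_pos hq hK _)) c).symm
    · intro i u
      show ρ (gc hq hK u.1 * g2 hq hK u.2) * ρ (gb hq hK i.1 * g1 hq hK i.2) =
        ρ (gb hq hK i.1 * g1 hq hK i.2) * ρ (gc hq hK u.1 * g2 hq hK u.2) * ρ (gz hq hK _)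
      rw [← map_mul, ← map_mul, ← map_mul]
      congr 1
      rw [sub_eq_add_neg, ← gz_add]
      calc gc hq hK u.1 * g2 hq hK u.2 * (gb hq hK i.1 * g1 hq hK i.2)
          = gc hq hK u.1 * (g2 hq hK u.2 * gb hq hK i.1) * g1 hq hK i.2 := by simp only [mul_assoc]
        _ = gc hq hK u.1 * gb hq hK i.1 * (g2 hq hK u.2 * g1 hq hK i.2) := by
            rw [b_g2]; simp only [mul_assoc]
        _ = gb hq hK i.1 * gc hq hK u.1 * (g1 hq hK i.2 * g2 hq hK u.2) *
            (gz hq hK (-(i.1 * u.1)) * gz hq hK (trF hq hK (i.2 * u.2))) := by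
            rw [c_b, g2_g1]
            simp only [mul_assoc]
            rw [← mul_assoc (gz hq hK (-(i.1 * u.1))) (g1 hq hK i.2),
              gz_central hq hK _ (g1_pos hq hK _), mul_assoc,
              ← mul_assoc (gz hq hK (-(i.1 * u.1))) (g2 hq hK u.2),
              gz_central hq hK _ (g2_pos hq hK _), mul_assoc]
        _ = _ := by
            rw [gz_central hq hK (-(i.1 * u.1)) (gz_pos hq hK _)]
            simp only [mul_assoc]
            rw [← mul_assoc (gc hq hK u.1) (g1 hq hK i.2), ← c_g1, mul_assoc]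
  set d0 := Module.finrank ℂ (wt actZ 1) with hd0
  have hsum : d0 + (q - 1) * D = Module.finrank ℂ V := by
    rw [← sum_finrank actZ, ← Finset.add_sum_erase _ _ (Finset.mem_univ (1 : AddChar F ℂ)),
      Finset.sum_congr rfl fun φ hφ => hall φ (Finset.ne_of_mem_erase hφ), Finset.sum_const,
      Finset.card_erase_of_mem (Finset.mem_univ _), Finset.card_univ, AddChar.card_eq, hcardF,
      smul_eq_mul]
  -- characters of root elements of the radical
  have htrz : ∀ c : F, c ≠ 0 → ρ.character (gz hq hK c) = (d0 : ℂ) - D := by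
    intro c hc
    show LinearMap.trace ℂ V (actZ c) = _
    have h0 := AddChar.sum_apply_eq_ite c
    rw [if_neg hc, ← Finset.add_sum_erase _ _ (Finset.mem_univ (1 : AddChar F ℂ)),
      AddChar.one_apply] at h0
    rw [trace_act, ← Finset.add_sum_erase _ _ (Finset.mem_univ (1 : AddChar F ℂ)),
      AddChar.one_apply, one_mul,
      Finset.sum_congr rfl fun φ hφ => by rw [hall φ (Finset.ne_of_mem_erase hφ)], ← Finset.sum_mul,
      eq_neg_of_add_eq_zero_right h0]
    ring
  have hX : ∀ (g : ↥G1) (c : F), g ∈ posG K q → c ≠ 0 → (∃ n, n * gz hq hK c * n⁻¹ = g) →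
      (∀ φ : AddChar F ℂ, φ ≠ 1 → ∃ y ∈ posG K q, ∃ w : F, φ w ≠ 1 ∧
        y * g = g * y * gz hq hK w) →
      LinearMap.trace ℂ V (ρ g * proj actZ 1) = (d0 : ℂ) - D := by
    intro g c hg hc hn hy
    obtain ⟨n, hn⟩ := hn
    have h1 : LinearMap.trace ℂ V (ρ g) = (d0 : ℂ) - D := by
      show ρ.character g = _
      rw [← hn, Representation.char_conj, htrz c hc]
    rw [← h1]
    conv_rhs => rw [← mul_one (ρ g), ← sum_proj actZ, Finset.mul_sum, map_sum]
    symm
    refine Finset.sum_eq_single (1 : AddChar F ℂ) (fun φ _ hφ => ?_) fun h => absurd (Finset.mem_univ _) h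
    obtain ⟨y, hy, w, hw, hyg⟩ := hy φ hφ
    refine trace_mul_proj_eq_zero actZ (y := ρ y) (y' := ρ y⁻¹) ?_ hw (hZc y hy) ?_
    · rw [← map_mul, inv_mul_cancel, map_one]
    · show ρ y * ρ g = ρ g * ρ y * ρ (gz hq hK w)
      rw [← map_mul, ← map_mul, ← map_mul, hyg]
  -- the centralised part
  let W0 := wt actZ 1
  have hWinv : ∀ g : ↥(posG K q), ∀ v ∈ W0, ρ (g : ↥G1) v ∈ W0 := by
    intro g v hv b
    rw [← Module.End.mul_apply, ← hZc _ g.2, Module.End.mul_apply, hv b, map_smul]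
  let r : ↥(posG K q) → Module.End ℂ W0 := fun g => (ρ (g : ↥G1)).restrict (hWinv g)
  have hr : ∀ g v, ((r g v : W0) : V) = ρ (g : ↥G1) (v : V) := fun g v => rfl
  have hrz : ∀ (g h : ↥(posG K q)) (v : F), (g : ↥G1) = h * gz hq hK v → r g = r h := by
    intro g h v e
    refine LinearMap.ext fun x => Subtype.ext ?_
    rw [hr, hr, e, map_mul, Module.End.mul_apply]
    congr 1
    show actZ v (x : V) = _
    rw [x.2 v, AddChar.one_apply, one_smul]
  let act0 : AddChar (F × K × K × F) (Module.End ℂ W0) :=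
    { toFun := fun x => r (coord hq hK x)
      map_zero_eq_one' := by
        have h1 : gc hq hK (0 : F) = 1 := Subtype.ext (Sys.xG_zero S K 22)
        have h2 : gb hq hK (0 : F) = 1 := Subtype.ext (Sys.xG_zero S K 14)
        have h3 := g2_add hq hK 0 0
        have h4 := g1_add hq hK 0 0
        rw [add_zero, mul_eq_left] at h3 h4
        refine LinearMap.ext fun x => Subtype.ext ?_
        rw [hr]
        show ρ (gb hq hK 0 * g1 hq hK 0 * (g2 hq hK 0 * gc hq hK 0)) _ = _
        simp [h1, h2, h3, h4]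
      map_add_eq_mul' := fun x y => by
        obtain ⟨v, hv⟩ := coord_add hq hK x y
        rw [← hrz (coord hq hK x * coord hq hK y) _ v hv]
        refine LinearMap.ext fun z => Subtype.ext ?_
        rw [hr, Subgroup.coe_mul, map_mul]
        rfl }
  have hW0tr : ∀ g : ↥(posG K q),
      LinearMap.trace ℂ V (ρ (g : ↥G1) * proj actZ 1) = LinearMap.trace ℂ W0 (r g) := by
    intro g
    have hm : ∀ x, (ρ (g : ↥G1) * proj actZ 1) x ∈ W0 := fun x =>
      hWinv g _ (proj_mem actZ 1 x)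
    rw [← LinearMap.trace_restrict_eq_of_forall_mem W0 _ hm]
    congr 1
    refine LinearMap.ext fun x => Subtype.ext ?_
    show ρ (g : ↥G1) (proj actZ 1 (x : V)) = ρ (g : ↥G1) (x : V)
    rw [proj_apply_mem actZ x.2]
  have hline : ∀ (o : Option K) (t : F), t ≠ 0 →
      LinearMap.trace ℂ W0 (act0 (line hq hK o t)) = (d0 : ℂ) - D := by
    intro o t ht
    rcases o with _ | s
    · have e : (coord hq hK (line hq hK none t) : ↥G1) = gc hq hK t := by
        have h2 : gb hq hK (0 : F) = 1 := Subtype.ext (Sys.xG_zero S K 14)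
        have h3 := g2_add hq hK 0 0
        have h4 := g1_add hq hK 0 0
        rw [add_zero, mul_eq_left] at h3 h4
        show gb hq hK 0 * g1 hq hK 0 * (g2 hq hK 0 * gc hq hK t) = _
        rw [h2, h3, h4, one_mul, one_mul, one_mul]
      show LinearMap.trace ℂ W0 (r _) = _
      rw [← hW0tr, e]
      obtain ⟨c, hc, hm⟩ := exists_conj_param hq hK (gc_add hq hK) (gz_conj_gc hq hK) ht
      refine hX _ c (gc_pos hq hK t) hc hm fun φ hφ => ?_
      obtain ⟨w, hw⟩ := exists_ne hq hK hφ ht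
      exact ⟨gb hq hK w, gb_pos hq hK w, w * t, by rwa [mul_comm], by
        rw [c_b, mul_assoc, gz_add, neg_add_cancel, show gz hq hK (0 : F) = 1 from z0, mul_one]⟩
    · obtain ⟨v, hv⟩ := gP_conj hq hK s t
      set g := gP q s * gb hq hK t * (gP q s)⁻¹ with hg
      have hgpos : g ∈ posG K q :=
        mul_mem (mul_mem (gP_pos q s) (gb_pos hq hK t)) (inv_mem (gP_pos q s))
      show LinearMap.trace ℂ W0 (r _) = _
      rw [← hrz ⟨g, hgpos⟩ (coord hq hK (line hq hK (some s) t)) v hv, ← hW0tr]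
      obtain ⟨c, hc, m, hm⟩ := exists_conj_param hq hK (gb_add hq hK) (gz_conj_gb hq hK) ht
      refine hX g c hgpos hc ⟨gP q s * m, by rw [hg, ← hm]; group⟩ fun φ hφ => ?_
      obtain ⟨w, hw⟩ := exists_ne hq hK hφ (neg_ne_zero.2 ht)
      rw [neg_mul] at hw
      refine ⟨gP q s * gc hq hK w * (gP q s)⁻¹,
        mul_mem (mul_mem (gP_pos q s) (gc_pos hq hK w)) (inv_mem (gP_pos q s)), -(t * w), hw, ?_⟩
      calc gP q s * gc hq hK w * (gP q s)⁻¹ * g
          = gP q s * (gc hq hK w * gb hq hK t) * (gP q s)⁻¹ := by rw [hg]; group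
        _ = gP q s * (gb hq hK t * gc hq hK w * gz hq hK (-(t * w))) * (gP q s)⁻¹ := by rw [c_b]
        _ = gP q s * (gb hq hK t * gc hq hK w) * (gz hq hK (-(t * w)) * (gP q s)⁻¹) := by group
        _ = gP q s * (gb hq hK t * gc hq hK w) * ((gP q s)⁻¹ * gz hq hK (-(t * w))) := by
            rw [gz_central hq hK _ (inv_mem (gP_pos q s))]
        _ = _ := by rw [hg]; group
  -- counting over the lines
  let wl : AddChar (F × K × K × F) ℂ → ℕ := fun lam => Module.finrank ℂ (wt act0 lam)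
  have hwl : ∑ lam, wl lam = d0 := sum_finrank act0
  let f : Option K → ℕ := fun o =>
    ∑ lam ∈ Finset.univ.filter (fun lam : AddChar (F × K × K × F) ℂ => ∀ t, lam (line hq hK o t) = 1),
      wl lam
  have hf : ∀ o, q * f o + (q - 1) * D = q * d0 := by
    intro o
    let ℓ : F →+ F × K × K × F := AddMonoidHom.mk' (line hq hK o) (line_add hq hK o)
    have e0 : LinearMap.trace ℂ W0 (act0 (ℓ 0)) = (d0 : ℂ) := by
      rw [map_zero, AddChar.map_zero_eq_one, LinearMap.trace_one]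
    have e1 : ∑ t, LinearMap.trace ℂ W0 (act0 (ℓ t)) = (d0 : ℂ) + ((q - 1 : ℕ) : ℂ) * (d0 - D) := by
      rw [← Finset.add_sum_erase _ _ (Finset.mem_univ (0 : F)), e0,
        Finset.sum_congr rfl fun t ht => show LinearMap.trace ℂ W0 (act0 (ℓ t)) = (d0 : ℂ) - D from
          hline o t (Finset.ne_of_mem_erase ht),
        Finset.sum_const, Finset.card_erase_of_mem (Finset.mem_univ _), Finset.card_univ, hcardF,
        nsmul_eq_mul]
    have e2 : ∑ t, LinearMap.trace ℂ W0 (act0 (ℓ t)) = (q : ℂ) * (f o : ℂ) := by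
      simp only [trace_act]
      rw [Finset.sum_comm, Nat.cast_sum, Finset.mul_sum, Finset.sum_filter]
      refine Finset.sum_congr rfl fun lam _ => ?_
      rw [← Finset.sum_mul]
      have h1 : ∑ t, lam (ℓ t) = ∑ t, lam.compAddMonoidHom ℓ t := rfl
      rw [h1, AddChar.sum_eq_ite, hcardF]
      by_cases h : ∀ t, lam (line hq hK o t) = 1
      · rw [if_pos h, if_pos (DFunLike.ext _ _ fun t => by
          rw [AddChar.compAddMonoidHom_apply]; exact h t)]
      · rw [if_neg h, if_neg (fun h' => h fun t => ?_), zero_mul]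
        exact DFunLike.congr_fun h' t
    have e3 := e2.symm.trans e1
    rw [Nat.cast_sub (show 1 ≤ q from hq.one_lt.le), Nat.cast_one] at e3
    have e4 : ((q * f o + (q - 1) * D : ℕ) : ℂ) = ((q * d0 : ℕ) : ℂ) := by
      push_cast [Nat.cast_sub (show 1 ≤ q from hq.one_lt.le)]
      rw [e3]; ring
    exact_mod_cast e4
  have hfge : d0 ≤ ∑ o, f o := by
    simp only [f, Finset.sum_filter]
    rw [← hwl, Finset.sum_comm]
    refine Finset.sum_le_sum fun lam _ => ?_
    obtain ⟨o, ho⟩ := exists_line hq hK lam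
    refine le_trans ?_ (Finset.single_le_sum (f := fun o => if ∀ t, lam (line hq hK o t) = 1 then wl lam else 0)
      (fun _ _ => Nat.zero_le _) (Finset.mem_univ o))
    exact (if_pos ho).ge
  have htot : ∑ o : Option K, (q * f o + (q - 1) * D) = (q ^ 3 + 1) * (q * d0) := by
    rw [Finset.sum_congr rfl fun o _ => hf o, Finset.sum_const, Finset.card_univ, Fintype.card_option,
      hK, smul_eq_mul]
  rw [Finset.sum_add_distrib, ← Finset.mul_sum, Finset.sum_const, Finset.card_univ, Fintype.card_option,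
    hK, smul_eq_mul] at htot
  have hq2 := hq.two_le
  have hqf : q * d0 ≤ q * ∑ o, f o := Nat.mul_le_mul_left q hfge
  have hd : (q ^ 3 + 1) * (q - 1) ≤ d0 := by
    have h1 : (q ^ 3 + 1) * ((q - 1) * D) ≤ q ^ 4 * d0 := by
      have : (q ^ 3 + 1) * (q * d0) = q ^ 4 * d0 + q * d0 := by ring
      omega
    refine Nat.le_of_mul_le_mul_left ?_ (show 0 < q ^ 4 by positivity)
    calc q ^ 4 * ((q ^ 3 + 1) * (q - 1)) = (q ^ 3 + 1) * ((q - 1) * q ^ 4) := by ring
      _ ≤ (q ^ 3 + 1) * ((q - 1) * D) := by gcongr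
      _ ≤ _ := h1
  have hle : (q - 1) * (q ^ 4 + q ^ 3 + 1) ≤ Module.finrank ℂ V := by
    have : (q - 1) * q ^ 4 ≤ (q - 1) * D := Nat.mul_le_mul_left _ hDq
    have e : (q - 1) * (q ^ 4 + q ^ 3 + 1) = (q - 1) * q ^ 4 + (q ^ 3 + 1) * (q - 1) := by ring
    omega
  have hne : (q - 1) * (q ^ 4 + q ^ 3 + 1) ≠ Module.finrank ℂ V := by
    intro e
    have := hirr
    have hdvd : Module.finrank ℂ V ∣ Nat.card ↥G1 := Cfsg.Agent.S0135.result ρ
    have hcard : Nat.card ↥G1 = q ^ 12 * (q ^ 2 - 1) * (q ^ 6 - 1) * (q ^ 8 + q ^ 4 + 1) :=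
      card_group hq hK
    rw [← e, hcard] at hdvd
    exact no_dvd hq2 ((Dvd.intro_left _ rfl).trans hdvd)
  have e5 : (q - 1) * (q ^ 4 + q ^ 3 + 1) + 1 = q * (q ^ 4 - q ^ 2 + 1) := by
    have h24 : q ^ 2 ≤ q ^ 4 := Nat.pow_le_pow_right (by omega) (by norm_num)
    zify [show 1 ≤ q by omega, h24]
    ring
  omega

end Final

end CfsgLib.TwistedLie.D4.MinDeg65
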